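import Mathlib
import Groth.Agent.Lib.AdicExtra.Complete
import Groth.Agent.Lib.AdicLim.Finite

/-!
# Rig-closed points of adic Noetherian rings
-/

namespace GrothLib.RigClosed

universe u

section Domain

variable {C : Type u} [CommRing C] [IsDomain C] [IsNoetherianRing C] {J : Ideal C}

/-- In a Noetherian domain in which a nonzero ideal lies in every nonzero prime, nonzero primes are
maximal (Artin–Tate). -/
theorem isMaximal_of_forall_le (hJ : J ≠ ⊥) (h : ∀ P : Ideal C, P.IsPrime → P ≠ ⊥ → J ≤ P)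
    (P : Ideal C) [hP : P.IsPrime] (hP0 : P ≠ ⊥) : P.IsMaximal := by
  classical
  obtain ⟨a, haJ, ha0⟩ := J.exists_mem_ne_zero_of_ne_bot hJ
  have hfin := (Ideal.span {a}).finite_minimalPrimes_of_isNoetherianRing
  obtain ⟨m, hm, hPm⟩ := P.exists_le_maximal hP.ne_top
  have key : ∀ x ∈ m, x ∈ ⋃ Q ∈ hfin.toFinset, (Q : Set C) := by
    intro x hx
    by_cases hx0 : x = 0
    · obtain ⟨Q, hQ⟩ := Ideal.nonempty_minimalPrimes (I := Ideal.span {a}) (by
        intro htop
        exact hm.ne_top (top_le_iff.1 (htop ▸ (Ideal.span_singleton_le_iff_mem _).2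
          (h m hm.isPrime (fun hb => hP0 (le_bot_iff.1 (hb ▸ hPm))) haJ))))
      exact Set.mem_biUnion (hfin.mem_toFinset.2 hQ) (hx0 ▸ Q.zero_mem)
    obtain ⟨Q, hQ, hQm⟩ := Ideal.exists_minimalPrimes_le
      ((Ideal.span_singleton_le_iff_mem m).2 hx)
    have hQp : Q.IsPrime := hQ.1.1
    have hQx : x ∈ Q := hQ.1.2 (Ideal.mem_span_singleton_self x)
    have hQ0 : Q ≠ ⊥ := fun hb => hx0 (by simpa [hb] using hQx)
    have hh : Q.height ≤ 1 :=
      Ideal.height_le_one_of_isPrincipal_of_mem_minimalPrimes (Ideal.span {x}) Q hQ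
    refine Set.mem_biUnion (hfin.mem_toFinset.2 ⟨⟨hQp, ?_⟩, fun Q' hQ' hle => ?_⟩) hQx
    · exact (Ideal.span_singleton_le_iff_mem _).2 (h Q hQp hQ0 haJ)
    · by_contra hne
      have hlt : Q' < Q := lt_of_le_not_ge hle hne
      have : Q'.IsPrime := hQ'.1
      have h1 := Ideal.height_strict_mono_of_isPrime hlt
      have hQ'0 : ⊥ < Q' := bot_lt_iff_ne_bot.2 fun hb => ha0 (by
        simpa [hb] using hQ'.2 (Ideal.mem_span_singleton_self a))
      have h2 := Ideal.height_strict_mono_of_isPrime hQ'0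
      have h3 : (1 : ℕ∞) ≤ Q'.height :=
        Order.one_le_iff_pos.2 (lt_of_le_of_lt bot_le h2)
      exact absurd (lt_of_le_of_lt h3 h1) (not_lt.2 hh)
  obtain ⟨Q, hQf, hmQ⟩ := (Ideal.subset_union_prime (⊥ : Ideal C) ⊥
    (fun Q hQ _ _ => (hfin.mem_toFinset.1 hQ).1.1)).1 key
  have hQmem := hfin.mem_toFinset.1 hQf
  have hPa : Ideal.span {a} ≤ P := (Ideal.span_singleton_le_iff_mem _).2 (h P hP hP0 haJ)
  have hQm' : Q = m := (hm.eq_of_le hQmem.1.1.ne_top hmQ).symm
  have hmP : m ≤ P := hQm' ▸ hQmem.2 ⟨hP, hPa⟩ (hQm' ▸ hPm)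
  exact le_antisymm hPm hmP ▸ hm

/-- Such a domain, complete for `J`, is local. -/
theorem isLocalRing_of_forall_le (hJ : J ≠ ⊥) (h : ∀ P : Ideal C, P.IsPrime → P ≠ ⊥ → J ≤ P)
    [IsAdicComplete J C] : IsLocalRing C := by
  classical
  have hjac : ∀ m : Ideal C, m.IsMaximal → J ≤ m := fun m hm =>
    (IsAdicComplete.le_jacobson_bot J).trans (sInf_le ⟨bot_le, hm⟩)
  obtain ⟨m, hm⟩ := Ideal.exists_maximal C
  refine IsLocalRing.of_unique_max_ideal ⟨m, hm, fun m' hm' => ?_⟩
  by_contra hne
  let D := C ⧸ J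
  have hd : Ring.KrullDimLE 0 D := by
    refine Ring.krullDimLE_zero_iff.2 fun Q hQ => ?_
    have hc : (Q.comap (Ideal.Quotient.mk J)).IsPrime := Ideal.comap_isPrime _ _
    have hle : J ≤ Q.comap (Ideal.Quotient.mk J) := by
      rw [← Ideal.map_le_iff_le_comap, Ideal.map_quotient_self]; exact bot_le
    have hmax := isMaximal_of_forall_le hJ h _ (fun hb => hJ (le_bot_iff.1 (hb ▸ hle)))
    rw [← Ideal.map_comap_of_surjective (Ideal.Quotient.mk J) Ideal.Quotient.mk_surjective Q]
    exact Ideal.IsMaximal.map_of_surjective_of_ker_le Ideal.Quotient.mk_surjective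
      (by rwa [Ideal.mk_ker])
  have hart : IsArtinianRing D := isArtinianRing_iff_isNoetherianRing_krullDimLE_zero.2 ⟨inferInstance, hd⟩
  let x : PrimeSpectrum D := ⟨m.map (Ideal.Quotient.mk J),
    (Ideal.IsMaximal.map_of_surjective_of_ker_le Ideal.Quotient.mk_surjective
      (by rw [Ideal.mk_ker]; exact hjac m hm)).isPrime⟩
  let x' : PrimeSpectrum D := ⟨m'.map (Ideal.Quotient.mk J),
    (Ideal.IsMaximal.map_of_surjective_of_ker_le Ideal.Quotient.mk_surjective
      (by rw [Ideal.mk_ker]; exact hjac m' hm')).isPrime⟩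
  have hxx : x' ≠ x := fun he => hne (by
    have := congrArg (fun z : PrimeSpectrum D => z.asIdeal.comap (Ideal.Quotient.mk J)) he
    simpa only [x, x', Ideal.comap_map_of_surjective' _ Ideal.Quotient.mk_surjective, Ideal.mk_ker,
      sup_eq_left.2 (hjac m hm), sup_eq_left.2 (hjac m' hm')] using this)
  obtain ⟨e, f, hef, hef1, hs⟩ :=
    PrimeSpectrum.isClopen_iff_mul_add.1 (isClopen_discrete ({x} : Set (PrimeSpectrum D)))
  have he : e * e = e := by linear_combination e * hef1 - hef
  obtain ⟨a₀, rfl⟩ := Ideal.Quotient.mk_surjective e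
  have he0 : a₀ * a₀ - a₀ ∈ J := Ideal.Quotient.eq.1 (by rw [map_mul]; exact he)
  obtain ⟨a, ha, hsub⟩ := HenselianRing.is_henselian (I := J)
    ((Polynomial.X : Polynomial C) ^ 2 - Polynomial.X)
    (Polynomial.monic_X_pow_sub (n := 2) (p := Polynomial.X) (by simp)) a₀
    (by simpa [sq] using he0)
    (by
      refine isUnit_iff_exists_inv.2 ⟨Ideal.Quotient.mk J (2 * a₀ - 1), ?_⟩
      rw [← map_mul, ← map_one (Ideal.Quotient.mk J), Ideal.Quotient.eq]
      convert J.mul_mem_left 4 he0 using 1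
      simp [Polynomial.derivative_X_pow, one_add_one_eq_two]
      ring)
  have haid : a * (a - 1) = 0 := by
    have := ha
    simp [Polynomial.IsRoot] at this
    linear_combination this
  have hmk : Ideal.Quotient.mk J a = Ideal.Quotient.mk J a₀ := Ideal.Quotient.eq.2 hsub
  rcases mul_eq_zero.1 haid with h0 | h1
  · have hx : x ∈ (PrimeSpectrum.basicOpen (Ideal.Quotient.mk J a₀) : Set (PrimeSpectrum D)) :=
      hs ▸ rfl
    refine hx ?_
    rw [← hmk, h0, map_zero]
    exact zero_mem _
  · have hx' : x' ∉ (PrimeSpectrum.basicOpen (Ideal.Quotient.mk J a₀) : Set (PrimeSpectrum D)) :=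
      hs ▸ hxx
    refine hx' fun hmem => x'.isPrime.ne_top ?_
    rw [← hmk, sub_eq_zero.1 h1, map_one] at hmem
    exact (Ideal.eq_top_iff_one _).2 hmem

end Domain

/-- Residue field finite implies finite, for complete one-dimensional local domains over `A`. -/
theorem finite_of_finite_residue {A C : Type u} [CommRing A] [CommRing C] [IsNoetherianRing C]
    [IsLocalRing C] [Algebra A C] {I : Ideal A} [IsPrecomplete I A]
    [IsHausdorff I C] (hrad : ∃ k, IsLocalRing.maximalIdeal C ^ k ≤ I.map (algebraMap A C))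
    (h : Module.Finite A (C ⧸ IsLocalRing.maximalIdeal C)) : Module.Finite A C := by
  obtain ⟨k, hk⟩ := hrad
  set m := IsLocalRing.maximalIdeal C
  have key : ∀ j, Module.Finite A (C ⧸ m ^ j) := by
    intro j
    induction j with
    | zero =>
      have : Subsingleton (C ⧸ m ^ 0) := by
        rw [pow_zero, Ideal.one_eq_top]; exact Ideal.Quotient.subsingleton_iff.2 rfl
      exact inferInstance
    | succ j ih =>
      -- the kernel of the transition map is a finite module over the residue ring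
      let π : (C ⧸ m ^ (j + 1)) →ₐ[A] C ⧸ m ^ j :=
        Ideal.Quotient.factorₐ A (Ideal.pow_le_pow_right (Nat.le_succ j))
      obtain ⟨T, hT⟩ := (IsNoetherian.noetherian (m ^ j) : (m ^ j).FG)
      obtain ⟨S, hS⟩ := h.fg_top
      classical
      choose l hl using fun s : C ⧸ m => Ideal.Quotient.mk_surjective s
      have hker : (LinearMap.ker π.toLinearMap).FG := by
        refine ⟨(T ×ˢ S).image fun p => Ideal.Quotient.mk (m ^ (j + 1)) (l p.2 * p.1),
          le_antisymm (Submodule.span_le.2 ?_) ?_⟩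
        · intro y hy
          simp only [Finset.coe_image, Set.mem_image, Finset.mem_coe, Finset.mem_product] at hy
          obtain ⟨⟨x, s⟩, ⟨hx, -⟩, rfl⟩ := hy
          exact Ideal.Quotient.eq_zero_iff_mem.2
            (Ideal.mul_mem_left _ _ (hT ▸ Submodule.subset_span hx))
        · intro y hy
          obtain ⟨y, rfl⟩ := Ideal.Quotient.mk_surjective y
          have hy' : y ∈ m ^ j := Ideal.Quotient.eq_zero_iff_mem.1 hy
          rw [← hT] at hy'
          -- write each coefficient modulo `m`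
          obtain ⟨c, rfl⟩ := Submodule.mem_span_finset'.1 hy'
          rw [map_sum]
          refine sum_mem fun x _ => ?_
          have hc : Ideal.Quotient.mk m (c x) ∈ Submodule.span A (S : Set (C ⧸ m)) := by
            rw [hS]; trivial
          obtain ⟨d, hd⟩ := Submodule.mem_span_finset'.1 hc
          have hdiff : c x - ∑ s : S, algebraMap A C (d s) * l s.1 ∈ m := by
            rw [← Ideal.Quotient.eq_zero_iff_mem, map_sub, map_sum, ← hd, sub_eq_zero]
            refine Finset.sum_congr rfl fun s _ => ?_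
            rw [map_mul, hl, Algebra.smul_def]
            rfl
          have heq : Ideal.Quotient.mk (m ^ (j + 1)) (c x • x.1) =
              ∑ s : S, d s • Ideal.Quotient.mk (m ^ (j + 1)) (l s.1 * x.1) := by
            have : c x • x.1 - ∑ s : S, algebraMap A C (d s) * (l s.1 * x.1) ∈ m ^ (j + 1) := by
              rw [smul_eq_mul, show c x * x.1 - ∑ s : S, algebraMap A C (d s) * (l s.1 * x.1) =
                (c x - ∑ s : S, algebraMap A C (d s) * l s.1) * x.1 by
                rw [sub_mul, Finset.sum_mul]; simp [mul_assoc], pow_succ']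
              exact Ideal.mul_mem_mul hdiff (hT ▸ Submodule.subset_span x.2)
            rw [Ideal.Quotient.eq.2 this, map_sum]
            refine Finset.sum_congr rfl fun s _ => ?_
            rw [map_mul, Algebra.smul_def]
            rfl
          rw [heq]
          refine sum_mem fun s _ => Submodule.smul_mem _ _ (Submodule.subset_span ?_)
          simp only [Finset.coe_image, Set.mem_image, Finset.mem_coe]
          exact ⟨(x.1, s.1), Finset.mem_product.2 ⟨x.2, s.2⟩, rfl⟩
      have : Module.Finite A (LinearMap.ker π.toLinearMap) := Module.Finite.iff_fg.2 hker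
      have : Module.Finite A ((C ⧸ m ^ (j + 1)) ⧸ LinearMap.ker π.toLinearMap) :=
        Module.Finite.equiv (π.toLinearMap.quotKerEquivOfSurjective
          (Ideal.Quotient.factor_surjective (Ideal.pow_le_pow_right (Nat.le_succ j)))).symm
      exact Module.Finite.of_submodule_quotient (LinearMap.ker π.toLinearMap)
  have := key k
  have h3 : Module.Finite A (C ⧸ I.map (algebraMap A C)) :=
    Module.Finite.of_surjective (Ideal.Quotient.factorₐ A hk).toLinearMap
      (Ideal.Quotient.factor_surjective hk)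
  have h2 : Module.Finite A (C ⧸ (I • ⊤ : Submodule A C)) :=
    Module.Finite.equiv ((Submodule.quotEquivOfEq _ _ (Ideal.smul_top_eq_map I)).trans
      (Submodule.Quotient.restrictScalarsEquiv A (I.map (algebraMap A C)))).symm
  exact GrothLib.AdicExtra.finite_of_quotient_finite (I := I) h2

variable {A : Type u} [CommRing A] [IsNoetherianRing A] {I : Ideal A}

/-- Rig-closed primes have one-dimensional local quotients. -/
theorem quotient_of_rigClosed [IsAdicComplete I A] (q : PrimeSpectrum A)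
    (hq : ¬ I ≤ q.asIdeal ∧ ∀ y : PrimeSpectrum A, q ≤ y → ¬ I ≤ y.asIdeal → y = q) :
    IsLocalRing (A ⧸ q.asIdeal) ∧
      (∀ P : Ideal (A ⧸ q.asIdeal), P.IsPrime → P ≠ ⊥ →
        P.IsMaximal ∧ I.map (algebraMap A (A ⧸ q.asIdeal)) ≤ P) ∧
      I.map (algebraMap A (A ⧸ q.asIdeal)) ≠ ⊥ ∧
      IsAdicComplete (I.map (algebraMap A (A ⧸ q.asIdeal))) (A ⧸ q.asIdeal) := by
  set J := I.map (algebraMap A (A ⧸ q.asIdeal)) with hJdef
  have hJ : J ≠ ⊥ := fun h => hq.1 (by
    rw [hJdef, Ideal.map_eq_bot_iff_le_ker, Ideal.Quotient.algebraMap_eq, Ideal.mk_ker] at h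
    exact h)
  have hall : ∀ P : Ideal (A ⧸ q.asIdeal), P.IsPrime → P ≠ ⊥ → J ≤ P := by
    intro P hP hP0
    rw [hJdef, Ideal.map_le_iff_le_comap]
    by_contra hle
    have := hq.2 ⟨P.comap (algebraMap A (A ⧸ q.asIdeal)), inferInstance⟩
      (fun z hz => Ideal.mem_comap.2 (by
        rw [Ideal.Quotient.algebraMap_eq, Ideal.Quotient.eq_zero_iff_mem.2 hz]
        exact zero_mem P)) hle
    apply hP0
    rw [← Ideal.map_comap_of_surjective (algebraMap A (A ⧸ q.asIdeal))
      Ideal.Quotient.mk_surjective P, show P.comap (algebraMap A (A ⧸ q.asIdeal)) = q.asIdeal from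
        congrArg PrimeSpectrum.asIdeal this, Ideal.Quotient.algebraMap_eq, Ideal.map_quotient_self]
  have hc : IsAdicComplete I (A ⧸ q.asIdeal) := GrothLib.AdicLim.isAdicComplete_of_finite I (A ⧸ q.asIdeal)
  have hcJ : IsAdicComplete J (A ⧸ q.asIdeal) :=
    (IsAdicComplete.map_algebraMap_iff I (A ⧸ q.asIdeal)).2 hc
  exact ⟨isLocalRing_of_forall_le hJ hall, fun P hP hP0 => ⟨isMaximal_of_forall_le hJ hall P hP0,
    hall P hP hP0⟩, hJ, hcJ⟩

end GrothLib.RigClosed
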