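import Mathlib
import Groth.Agent.Lib.RigClosed.Basic

/-!
# Rig-closed points along adic maps
-/

namespace GrothLib.RigClosed

universe u

variable {A : Type u} [CommRing A] [IsNoetherianRing A] {I : Ideal A} [IsAdicComplete I A]
  {B : Type u} [CommRing B] [Algebra A B] [IsNoetherianRing B]
  [IsAdicComplete (I.map (algebraMap A B)) B]

/-- The quotient of `B` by a maximal ideal above `I` is finite over `A` as soon as it is finite
type over a residue field of `A`. -/
theorem finite_quotient_of_finiteType (hft : Algebra.FiniteType A (B ⧸ I.map (algebraMap A B)))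
    (m : Ideal B) [m.IsMaximal] (hIm : I.map (algebraMap A B) ≤ m)
    (hm : (m.comap (algebraMap A B)).IsMaximal) : Module.Finite A (B ⧸ m) := by
  have : Algebra.FiniteType A (B ⧸ m) :=
    Algebra.FiniteType.of_surjective (Ideal.Quotient.factorₐ A hIm)
      (Ideal.Quotient.factor_surjective hIm)
  let k := A ⧸ m.comap (algebraMap A B)
  let _ : Field k := Ideal.Quotient.field _
  let _ : Field (B ⧸ m) := Ideal.Quotient.field _
  let _ : Algebra k (B ⧸ m) :=
    (Ideal.quotientMap m (algebraMap A B) le_rfl).toAlgebra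
  have : IsScalarTower A k (B ⧸ m) := IsScalarTower.of_algebraMap_eq fun _ => rfl
  have : Algebra.FiniteType k (B ⧸ m) := Algebra.FiniteType.of_restrictScalars_finiteType A k _
  have : Module.Finite k (B ⧸ m) := finite_of_finite_type_of_isJacobsonRing k (B ⧸ m)
  have : Module.Finite A k :=
    Module.Finite.of_surjective (Algebra.linearMap A k) Ideal.Quotient.mk_surjective
  exact Module.Finite.trans k (B ⧸ m)

/-- If the residue rings above a rig-closed prime are finite over `A`, so is the quotient. -/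
theorem finite_quotient_of_residue (q : PrimeSpectrum B)
    (hq : ¬ I.map (algebraMap A B) ≤ q.asIdeal ∧ ∀ y : PrimeSpectrum B, q ≤ y →
      ¬ I.map (algebraMap A B) ≤ y.asIdeal → y = q)
    (h : ∀ m : Ideal B, m.IsMaximal → q.asIdeal ≤ m → Module.Finite A (B ⧸ m)) :
    Module.Finite A (B ⧸ q.asIdeal) := by
  obtain ⟨hloc, hprimes, hJ, hc⟩ := quotient_of_rigClosed q hq
  set C := B ⧸ q.asIdeal
  have hmap : (I.map (algebraMap A B)).map (algebraMap B C) = I.map (algebraMap A C) := by
    rw [Ideal.map_map, ← IsScalarTower.algebraMap_eq]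
  rw [hmap] at hJ hc hprimes
  have : IsAdicComplete I C := (IsAdicComplete.map_algebraMap_iff I C).1 hc
  have hrad : IsLocalRing.maximalIdeal C ≤ (I.map (algebraMap A C)).radical := by
    rw [Ideal.radical_eq_sInf]
    refine le_sInf fun P hP => ?_
    have hP0 : P ≠ ⊥ := fun hb => hJ (le_bot_iff.1 (hb ▸ hP.1))
    rw [IsLocalRing.eq_maximalIdeal (hprimes P hP.2 hP0).1]
  obtain ⟨k, hk⟩ := Ideal.exists_pow_le_of_le_radical_of_fg hrad (IsNoetherian.noetherian _)
  refine finite_of_finite_residue (I := I) ⟨k, hk⟩ ?_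
  let m := (IsLocalRing.maximalIdeal C).comap (Ideal.Quotient.mk q.asIdeal)
  have hm : m.IsMaximal := Ideal.comap_isMaximal_of_surjective _ Ideal.Quotient.mk_surjective
  have hqm : q.asIdeal ≤ m := fun z hz => by
    show Ideal.Quotient.mk q.asIdeal z ∈ IsLocalRing.maximalIdeal C
    rw [Ideal.Quotient.eq_zero_iff_mem.2 hz]; exact zero_mem _
  have := h m hm hqm
  refine Module.Finite.of_surjective
    (Ideal.quotientMapₐ (IsLocalRing.maximalIdeal C) (Ideal.Quotient.mkₐ A q.asIdeal)
      (I := m) le_rfl).toLinearMap fun y => ?_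
  obtain ⟨c, rfl⟩ := Ideal.Quotient.mk_surjective y
  obtain ⟨b, rfl⟩ := Ideal.Quotient.mk_surjective c
  exact ⟨Ideal.Quotient.mk m b, rfl⟩

omit [IsNoetherianRing A] [IsAdicComplete I A] [IsNoetherianRing B]
  [IsAdicComplete (I.map (algebraMap A B)) B] in
/-- Finite quotients at rig-closed primes lie over rig-closed primes. -/
theorem rigClosed_comap_of_finite (q : PrimeSpectrum B)
    (hq : ¬ I.map (algebraMap A B) ≤ q.asIdeal ∧ ∀ y : PrimeSpectrum B, q ≤ y →
      ¬ I.map (algebraMap A B) ≤ y.asIdeal → y = q)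
    [Module.Finite A (B ⧸ q.asIdeal)] :
    ¬ I ≤ (PrimeSpectrum.comap (algebraMap A B) q).asIdeal ∧
      ∀ y : PrimeSpectrum A, (PrimeSpectrum.comap (algebraMap A B) q) ≤ y → ¬ I ≤ y.asIdeal →
        y = (PrimeSpectrum.comap (algebraMap A B) q) := by
  refine ⟨fun h => hq.1 (Ideal.map_le_iff_le_comap.2 h), fun y hy hIy => ?_⟩
  obtain ⟨Q, -, hQ, hQy⟩ := Ideal.exists_ideal_over_prime_of_isIntegral (R := A) (S := B ⧸ q.asIdeal)
    y.asIdeal ⊥ (by
      rw [← RingHom.ker_eq_comap_bot]
      intro z hz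
      refine hy ?_
      show algebraMap A B z ∈ q.asIdeal
      rwa [RingHom.mem_ker, IsScalarTower.algebraMap_apply A B (B ⧸ q.asIdeal),
        Ideal.Quotient.algebraMap_eq, Ideal.Quotient.eq_zero_iff_mem] at hz)
  have hcomap : (Q.comap (Ideal.Quotient.mk q.asIdeal)).comap (algebraMap A B) = y.asIdeal := by
    rw [← hQy, Ideal.comap_comap]; rfl
  have := hq.2 ⟨Q.comap (Ideal.Quotient.mk q.asIdeal), Ideal.comap_isPrime _ _⟩
    (fun z hz => Ideal.mem_comap.2 (by
      rw [Ideal.Quotient.eq_zero_iff_mem.2 hz]; exact zero_mem Q))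
    (fun h => hIy (hcomap ▸ Ideal.map_le_iff_le_comap.1 h))
  exact PrimeSpectrum.ext (hcomap.symm.trans
    (congrArg (fun z : PrimeSpectrum B => z.asIdeal.comap (algebraMap A B)) this))

theorem tfae_rigClosed (hft : Algebra.FiniteType A (B ⧸ I.map (algebraMap A B))) (q : PrimeSpectrum B)
    (hq : ¬ I.map (algebraMap A B) ≤ q.asIdeal ∧ ∀ y : PrimeSpectrum B, q ≤ y →
      ¬ I.map (algebraMap A B) ≤ y.asIdeal → y = q) :
    List.TFAE [∀ m : Ideal B, m.IsMaximal → q.asIdeal ≤ m → Module.Finite A (B ⧸ m),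
      (¬ I ≤ (PrimeSpectrum.comap (algebraMap A B) q).asIdeal ∧
        ∀ y : PrimeSpectrum A, (PrimeSpectrum.comap (algebraMap A B) q) ≤ y → ¬ I ≤ y.asIdeal →
          y = (PrimeSpectrum.comap (algebraMap A B) q)),
      Module.Finite A (B ⧸ q.asIdeal)] := by
  tfae_have 1 → 3 := finite_quotient_of_residue q hq
  tfae_have 3 → 2 := fun h => rigClosed_comap_of_finite q hq
  tfae_have 2 → 1 := by
    intro hp m hm hqm
    set p := PrimeSpectrum.comap (algebraMap A B) q
    obtain ⟨hloc, hprimes, -, -⟩ := quotient_of_rigClosed p hp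
    have hIm : I.map (algebraMap A B) ≤ m :=
      (IsAdicComplete.le_jacobson_bot _).trans (sInf_le ⟨bot_le, hm⟩)
    have hpn : p.asIdeal ≤ m.comap (algebraMap A B) := Ideal.comap_mono hqm
    refine finite_quotient_of_finiteType hft m hIm ?_
    have hn : (m.comap (algebraMap A B)).IsPrime := Ideal.comap_isPrime _ _
    let n' := (m.comap (algebraMap A B)).map (Ideal.Quotient.mk p.asIdeal)
    have hn' : n'.IsPrime := Ideal.map_isPrime_of_surjective Ideal.Quotient.mk_surjective
      (by rwa [Ideal.mk_ker])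
    have hcom : n'.comap (Ideal.Quotient.mk p.asIdeal) = m.comap (algebraMap A B) := by
      rw [Ideal.comap_map_of_surjective' _ Ideal.Quotient.mk_surjective, Ideal.mk_ker,
        sup_eq_left.2 hpn]
    have hn0 : n' ≠ ⊥ := fun hb => hp.1 (by
      have : m.comap (algebraMap A B) = p.asIdeal := by
        rw [← hcom, hb, ← RingHom.ker_eq_comap_bot, Ideal.mk_ker]
      rw [← this, ← Ideal.map_le_iff_le_comap]
      exact hIm)
    rw [← hcom]
    have := (hprimes n' hn' hn0).1
    exact Ideal.comap_isMaximal_of_surjective _ Ideal.Quotient.mk_surjective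
  tfae_finish

theorem rigClosed_comap_of_isJacobsonRing
    (hft : Algebra.FiniteType A (B ⧸ I.map (algebraMap A B))) (q : PrimeSpectrum B)
    (hq : ¬ I.map (algebraMap A B) ≤ q.asIdeal ∧ ∀ y : PrimeSpectrum B, q ≤ y →
      ¬ I.map (algebraMap A B) ≤ y.asIdeal → y = q) (hJ : IsJacobsonRing (A ⧸ I)) :
    ¬ I ≤ (PrimeSpectrum.comap (algebraMap A B) q).asIdeal ∧
      ∀ y : PrimeSpectrum A, (PrimeSpectrum.comap (algebraMap A B) q) ≤ y → ¬ I ≤ y.asIdeal →
        y = (PrimeSpectrum.comap (algebraMap A B) q) := by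
  refine ((tfae_rigClosed hft q hq).out 0 1).1 fun m hm _ => ?_
  have hIm : I.map (algebraMap A B) ≤ m :=
    (IsAdicComplete.le_jacobson_bot _).trans (sInf_le ⟨bot_le, hm⟩)
  have : m.IsMaximal := hm
  letI : Field (B ⧸ m) := Ideal.Quotient.field m
  have : Algebra.FiniteType A (B ⧸ m) :=
    Algebra.FiniteType.of_surjective (Ideal.Quotient.factorₐ A hIm)
      (Ideal.Quotient.factor_surjective hIm)
  letI : Algebra (A ⧸ I) (B ⧸ m) :=
    (Ideal.quotientMap m (algebraMap A B) (Ideal.map_le_iff_le_comap.1 hIm)).toAlgebra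
  have : IsScalarTower A (A ⧸ I) (B ⧸ m) := IsScalarTower.of_algebraMap_eq fun _ => rfl
  have : Algebra.FiniteType (A ⧸ I) (B ⧸ m) := Algebra.FiniteType.of_restrictScalars_finiteType A _ _
  have : Module.Finite (A ⧸ I) (B ⧸ m) := finite_of_finite_type_of_isJacobsonRing _ _
  have : Module.Finite A (A ⧸ I) :=
    Module.Finite.of_surjective (Algebra.linearMap A (A ⧸ I)) Ideal.Quotient.mk_surjective
  exact Module.Finite.trans (A ⧸ I) (B ⧸ m)

end GrothLib.RigClosed
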