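import Mathlib
import Groth.Agent.Lib.RigidBase.Chart
import Groth.Agent.Lib.RigidBase.Local
import Groth.Agent.Lib.AdicExtra.Completion
import Groth.Agent.Lib.RigClosed.Adic

/-!
# Completed principal localizations and rig-closed primes
-/

open scoped TensorProduct

namespace GrothLib.RigClosed

universe u

variable {A : Type u} [CommRing A] [IsNoetherianRing A] (I : Ideal A) (f : A)

/-- The completed principal localization. -/
abbrev CL := AdicCompletion (I.map (algebraMap A (Localization.Away f))) (Localization.Away f)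

omit [IsNoetherianRing A] in
theorem cl_eq : CL I f = AdicRing.CLoc I f := rfl

theorem isNoetherianRing_cl : IsNoetherianRing (CL I f) := by
  have : IsNoetherianRing (Localization.Away f) :=
    IsLocalization.isNoetherianRing (Submonoid.powers f) _ inferInstance
  infer_instance

theorem isAdicComplete_cl : IsAdicComplete (I.map (algebraMap A (CL I f))) (CL I f) :=
  GrothLib.RigidBase.isAdicComplete_cLoc (R := A) (IsNoetherian.noetherian I) f

theorem flat_cl : Module.Flat A (CL I f) := by
  have : IsNoetherianRing (Localization.Away f) :=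
    IsLocalization.isNoetherianRing (Submonoid.powers f) _ inferInstance
  have : Module.Flat A (Localization.Away f) :=
    IsLocalization.flat (Localization.Away f) (Submonoid.powers f)
  exact Module.Flat.trans A (Localization.Away f) _

omit [IsNoetherianRing A] in
theorem isUnit_algebraMap_cl : IsUnit (algebraMap A (CL I f) f) := by
  rw [IsScalarTower.algebraMap_apply A (Localization.Away f)]
  exact (IsLocalization.Away.algebraMap_isUnit f).map _

/-- Modulo `I`, the completed localization is the localization. -/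
theorem exists_pow_mul_sub_mem (x : CL I f) :
    ∃ (a : A) (k : ℕ), algebraMap A _ f ^ k * x - algebraMap A _ a ∈
      I.map (algebraMap A (CL I f)) := by
  obtain ⟨s, hs⟩ := GrothLib.RigidBase.exists_sub_mem_pow_map (R := A) (IsNoetherian.noetherian I) 1 x
  rw [pow_one] at hs
  obtain ⟨k, a, hka⟩ : ∃ (k : ℕ) (a : A), algebraMap A (Localization.Away f) f ^ k * s = algebraMap A _ a := by
    obtain ⟨a, ⟨_, k, rfl⟩, rfl⟩ := IsLocalization.exists_mk'_eq (Submonoid.powers f) s
    exact ⟨k, a, by rw [← map_pow, mul_comm, IsLocalization.mk'_spec]⟩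
  refine ⟨a, k, ?_⟩
  have h2 := congrArg (algebraMap (Localization.Away f) (CL I f)) hka
  rw [map_mul, map_pow, ← IsScalarTower.algebraMap_apply, ← IsScalarTower.algebraMap_apply] at h2
  rw [← h2, ← mul_sub]
  exact Ideal.mul_mem_left _ _ hs

variable [IsAdicComplete I A]

/-- If `f` is a unit modulo `𝔞`, completing the localization does not change the quotient. -/
theorem bijective_quotientMap (𝔞 : Ideal A) (hf : IsUnit (Ideal.Quotient.mk 𝔞 f)) :
    Function.Bijective (Ideal.quotientMap (𝔞.map (algebraMap A (CL I f))) (algebraMap A (CL I f))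
      Ideal.le_comap_map) := by
  have hcA : IsAdicComplete I (A ⧸ 𝔞) :=
    GrothLib.AdicLim.isAdicComplete_of_finite I (A ⧸ 𝔞)
  constructor
  · have : IsAdicComplete (I.map (algebraMap A (A ⧸ 𝔞))) (A ⧸ 𝔞) :=
      (IsAdicComplete.map_algebraMap_iff I (A ⧸ 𝔞)).2 hcA
    let g : Localization.Away f →ₐ[A] A ⧸ 𝔞 :=
      IsLocalization.liftAlgHom (M := Submonoid.powers f) (f := Ideal.Quotient.mkₐ A 𝔞) (by
        rintro ⟨_, k, rfl⟩
        simpa using hf.pow k)
    obtain ⟨G, -, -⟩ := GrothLib.RigidBase.existsUnique_extension (IsNoetherian.noetherian I) g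
    rw [injective_iff_map_eq_zero]
    intro a ha
    obtain ⟨a, rfl⟩ := Ideal.Quotient.mk_surjective a
    rw [Ideal.quotientMap_mk, Ideal.Quotient.eq_zero_iff_mem] at ha
    have hle : 𝔞.map (algebraMap A (CL I f)) ≤ RingHom.ker G.toRingHom := by
      rw [Ideal.map_le_iff_le_comap]
      intro z hz
      rw [Ideal.mem_comap, RingHom.mem_ker]
      exact (G.commutes z).trans (Ideal.Quotient.eq_zero_iff_mem.2 hz)
    have := hle ha
    rwa [RingHom.mem_ker, show G.toRingHom (algebraMap A (CL I f) a) = algebraMap A (A ⧸ 𝔞) a from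
      G.commutes a] at this
  · have := isNoetherianRing_cl I f
    have := isAdicComplete_cl I f
    let C := CL I f ⧸ 𝔞.map (algebraMap A (CL I f))
    have h1 : IsAdicComplete (I.map (algebraMap A (CL I f))) C :=
      GrothLib.AdicLim.isAdicComplete_of_finite _ C
    have h2 : IsAdicComplete ((I.map (algebraMap A (CL I f))).map (algebraMap (CL I f) C)) C :=
      (IsAdicComplete.map_algebraMap_iff _ C).2 h1
    rw [Ideal.map_map, ← IsScalarTower.algebraMap_eq] at h2
    have h3 : IsAdicComplete I C := (IsAdicComplete.map_algebraMap_iff I C).1 h2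
    let φ : (A ⧸ 𝔞) →ₗ[A] C :=
      (Ideal.quotientMapₐ (𝔞.map (algebraMap A (CL I f))) (Algebra.ofId A (CL I f))
        (I := 𝔞) Ideal.le_comap_map).toLinearMap
    refine (surjective_of_mkQ_comp_surjective (I := I) (f := φ) fun y => ?_ :
      Function.Surjective φ)
    obtain ⟨c, rfl⟩ := Submodule.mkQ_surjective _ y
    obtain ⟨x, rfl⟩ := Ideal.Quotient.mk_surjective c
    obtain ⟨a, k, hak⟩ := exists_pow_mul_sub_mem I f x
    obtain ⟨u, hu⟩ := hf.exists_left_inv
    obtain ⟨g, rfl⟩ := Ideal.Quotient.mk_surjective u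
    refine ⟨Ideal.Quotient.mk 𝔞 (g ^ k * a), (Submodule.Quotient.eq _).2 ?_⟩
    rw [Ideal.smul_top_eq_map, Submodule.restrictScalars_mem,
      show algebraMap A C = (Ideal.Quotient.mk _).comp (algebraMap A (CL I f)) from rfl,
      ← Ideal.map_map]
    have hg : Ideal.Quotient.mk (𝔞.map (algebraMap A (CL I f))) (algebraMap A _ (g * f)) = 1 := by
      rw [← map_one (Ideal.Quotient.mk (𝔞.map (algebraMap A (CL I f)))), Ideal.Quotient.eq,
        ← map_one (algebraMap A (CL I f)), ← map_sub]
      exact Ideal.mem_map_of_mem _ (Ideal.Quotient.eq.1 (by rw [map_mul, hu, map_one]))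
    have : φ (Ideal.Quotient.mk 𝔞 (g ^ k * a)) - Ideal.Quotient.mk _ x =
        - Ideal.Quotient.mk _ (algebraMap A _ g ^ k * (algebraMap A _ f ^ k * x - algebraMap A _ a)) := by
      rw [mul_sub, map_sub, neg_sub, ← mul_assoc, ← mul_pow, ← map_mul, map_mul _ _ x, map_pow,
        hg, one_pow, one_mul, ← map_pow, ← map_mul]
      rfl
    rw [this]
    exact neg_mem (Ideal.mem_map_of_mem _ (Ideal.mul_mem_left _ _ hak))

theorem isPrime_map (p : Ideal A) [p.IsPrime] (hf : IsUnit (Ideal.Quotient.mk p f)) :
    (p.map (algebraMap A (CL I f))).IsPrime := by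
  rw [← Ideal.Quotient.isDomain_iff_prime]
  exact MulEquiv.isDomain (A ⧸ p)
    (RingEquiv.ofBijective _ (bijective_quotientMap I f p hf)).symm.toMulEquiv

end GrothLib.RigClosed
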