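import Mathlib
import Groth.Agent.Lib.Flatness.Criterion
import Groth.Agent.Lib.RigClosed.Completion

/-!
# Naive rig-flatness is rig-flatness over Jacobson bases
-/

open scoped TensorProduct

namespace GrothLib.RigClosed

universe u

/-- If `A → R` induces surjections onto `R / (pR)^n` then flatness over `A` implies flatness
over `R`. -/
theorem flat_of_forall_quotient_surjective {A R M : Type u} [CommRing A] [CommRing R] [CommRing M]
    [IsNoetherianRing R] [IsNoetherianRing M] [Algebra A R] [Algebra A M] [Algebra R M]
    [IsScalarTower A R M] [Module.Flat A M] (p : Ideal A)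
    (hp : p.map (algebraMap A M) ≤ Ideal.jacobson ⊥)
    (h : ∀ (n : ℕ) (t : R), ∃ a : A, t - algebraMap A R a ∈ (p ^ n).map (algebraMap A R)) :
    Module.Flat R M := by
  refine GrothLib.Flatness.flat_of_forall_pow (S := M) (p.map (algebraMap A R)) ?_ ?_
  · rwa [Ideal.map_map, ← IsScalarTower.algebraMap_eq]
  intro n X Y _ _ _ _ g hX hY hg
  letI : Module A X := Module.compHom X (algebraMap A R)
  letI : Module A Y := Module.compHom Y (algebraMap A R)
  have : IsScalarTower A R X := ⟨fun a t x => by
    show (a • t) • x = algebraMap A R a • t • x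
    rw [Algebra.smul_def, mul_smul]⟩
  have : IsScalarTower A R Y := ⟨fun a t x => by
    show (a • t) • x = algebraMap A R a • t • x
    rw [Algebra.smul_def, mul_smul]⟩
  have key : ∀ (Z : Type u) [AddCommGroup Z] [Module R Z] [Module A Z] [IsScalarTower A R Z],
      Module.IsTorsionBySet R Z ((p.map (algebraMap A R)) ^ n : Ideal R) →
      TensorProduct.CompatibleSMul A R M Z := by
    intro Z _ _ _ _ hZ
    refine ⟨fun t m z => ?_⟩
    obtain ⟨a, ha⟩ := h n t
    have h0 : ∀ (k : R), k ∈ (p ^ n).map (algebraMap A R) → ∀ m : M,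
        (k • m) ⊗ₜ[A] z = 0 := by
      intro k hk
      rw [Ideal.map] at hk
      refine Submodule.span_induction ?_ (fun m => by simp) (fun x y _ _ hx hy m => ?_)
        (fun r x _ hx m => ?_) hk
      · rintro _ ⟨b, hb, rfl⟩ m
        rw [algebraMap_smul, TensorProduct.smul_tmul, ← algebraMap_smul R b z]
        have := @hZ z ⟨algebraMap A R b, by
          rw [← Ideal.map_pow]; exact Ideal.mem_map_of_mem _ hb⟩
        rw [show algebraMap A R b • z = 0 from this, TensorProduct.tmul_zero]
      · rw [add_smul, TensorProduct.add_tmul, hx, hy, add_zero]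
      · rw [smul_eq_mul, mul_comm, mul_smul, hx]
    have h1 : t • z = a • z := by
      rw [← algebraMap_smul R a z, ← sub_eq_zero, ← sub_smul]
      exact @hZ z ⟨_, by rw [← Ideal.map_pow]; exact ha⟩
    rw [h1, ← TensorProduct.smul_tmul, ← algebraMap_smul R a m, ← sub_eq_zero,
      ← TensorProduct.sub_tmul, ← sub_smul]
    exact h0 _ ha m
  have := key X hX
  have := key Y hY
  let eX := TensorProduct.equivOfCompatibleSMul R A A M X
  let eY := TensorProduct.equivOfCompatibleSMul R A A M Y
  have hinj := Module.Flat.lTensor_preserves_injective_linearMap (M := M) (g.restrictScalars A) hg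
  have hcomm : ∀ x, g.lTensor M (eX x) = eY ((g.restrictScalars A).lTensor M x) := by
    intro x
    induction x using TensorProduct.induction_on with
    | zero => simp
    | tmul m z => rfl
    | add x y hx hy => simp only [map_add, hx, hy]
  intro x y hxy
  obtain ⟨x, rfl⟩ := eX.surjective x
  obtain ⟨y, rfl⟩ := eX.surjective y
  rw [hcomm, hcomm] at hxy
  rw [hinj (eY.injective hxy)]

variable {A : Type u} [CommRing A] [IsNoetherianRing A] {I : Ideal A} [IsAdicComplete I A]
  {B : Type u} [CommRing B] [Algebra A B] [IsNoetherianRing B]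
  [IsAdicComplete (I.map (algebraMap A B)) B]

theorem flat_rigClosed_cl (hft : Algebra.FiniteType A (B ⧸ I.map (algebraMap A B)))
    (hJ : IsJacobsonRing (A ⧸ I))
    (hnaive : ∀ q : PrimeSpectrum B, (¬ I.map (algebraMap A B) ≤ q.asIdeal ∧
      ∀ y : PrimeSpectrum B, q ≤ y → ¬ I.map (algebraMap A B) ≤ y.asIdeal → y = q) →
      (algebraMap A (Localization.AtPrime q.asIdeal)).Flat)
    (f : A) (ψ : CL I f →+* CL (I.map (algebraMap A B)) (algebraMap A B f))
    (hψ : ψ.comp (algebraMap (Localization.Away f) (CL I f)) =
      (algebraMap (Localization.Away (algebraMap A B f))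
        (CL (I.map (algebraMap A B)) (algebraMap A B f))).comp
        (Localization.awayMap (algebraMap A B) f))
    (q' : PrimeSpectrum (CL (I.map (algebraMap A B)) (algebraMap A B f)))
    (hq' : ¬ (I.map (algebraMap A B)).map
        (algebraMap B (CL (I.map (algebraMap A B)) (algebraMap A B f))) ≤ q'.asIdeal ∧
      ∀ y, q' ≤ y → ¬ (I.map (algebraMap A B)).map
        (algebraMap B (CL (I.map (algebraMap A B)) (algebraMap A B f))) ≤ y.asIdeal → y = q') :
    ((algebraMap _ (Localization.AtPrime q'.asIdeal)).comp ψ).Flat := by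
  let T := CL I f
  let T' := CL (I.map (algebraMap A B)) (algebraMap A B f)
  have : IsNoetherianRing T := isNoetherianRing_cl I f
  have : IsNoetherianRing T' := isNoetherianRing_cl (I.map (algebraMap A B)) (algebraMap A B f)
  have hcT' : IsAdicComplete ((I.map (algebraMap A B)).map (algebraMap B T')) T' := isAdicComplete_cl (I.map (algebraMap A B)) (algebraMap A B f)
  have : IsScalarTower A B T' := IsScalarTower.of_algebraMap_eq fun x => by
    rw [IsScalarTower.algebraMap_apply A (Localization.Away (algebraMap A B f)) T',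
      IsScalarTower.algebraMap_apply B (Localization.Away (algebraMap A B f)) T',
      ← IsScalarTower.algebraMap_apply A B (Localization.Away (algebraMap A B f))]
  have hmap : (I.map (algebraMap A B)).map (algebraMap B T') = I.map (algebraMap A T') := (Ideal.map_map _ _).trans (congrArg (Ideal.map · I) (IsScalarTower.algebraMap_eq A B T').symm)
  have : IsAdicComplete (I.map (algebraMap A T')) T' := hmap ▸ hcT'
  -- finite type and Jacobson
  have hftB : Algebra.FiniteType B (T' ⧸ (I.map (algebraMap A B)).map (algebraMap B T')) := by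
    have : Algebra.FiniteType B (Localization.Away (algebraMap A B f)) :=
      IsLocalization.finiteType_of_monoid_fg (Submonoid.powers (algebraMap A B f)) _
    refine Algebra.FiniteType.of_surjective
      ((Ideal.Quotient.mkₐ B _).comp (IsScalarTower.toAlgHom B (Localization.Away (algebraMap A B f)) T')) ?_
    intro y
    obtain ⟨x, rfl⟩ := Ideal.Quotient.mk_surjective y
    obtain ⟨s, hs⟩ := GrothLib.RigidBase.exists_sub_mem_pow_map (R := B) (IsNoetherian.noetherian (I.map (algebraMap A B))) 1 x
    rw [pow_one] at hs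
    exact ⟨s, (Ideal.Quotient.eq.2 hs).symm⟩
  letI : Algebra (B ⧸ (I.map (algebraMap A B))) (T' ⧸ (I.map (algebraMap A B)).map (algebraMap B T')) :=
    (Ideal.quotientMap _ (algebraMap B T') Ideal.le_comap_map).toAlgebra
  have : IsScalarTower B (B ⧸ (I.map (algebraMap A B))) (T' ⧸ (I.map (algebraMap A B)).map (algebraMap B T')) :=
    IsScalarTower.of_algebraMap_eq fun _ => rfl
  have : IsScalarTower A (B ⧸ (I.map (algebraMap A B))) (T' ⧸ (I.map (algebraMap A B)).map (algebraMap B T')) :=
    IsScalarTower.of_algebraMap_eq fun x => by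
      show algebraMap A _ x = algebraMap (B ⧸ (I.map (algebraMap A B))) (T' ⧸ (I.map (algebraMap A B)).map (algebraMap B T'))
        (algebraMap B (B ⧸ (I.map (algebraMap A B))) (algebraMap A B x))
      rw [← IsScalarTower.algebraMap_apply B (B ⧸ (I.map (algebraMap A B))), ← IsScalarTower.algebraMap_apply]
  have : Algebra.FiniteType (B ⧸ (I.map (algebraMap A B))) (T' ⧸ (I.map (algebraMap A B)).map (algebraMap B T')) :=
    Algebra.FiniteType.of_restrictScalars_finiteType B _ _
  have hftA : Algebra.FiniteType A (T' ⧸ I.map (algebraMap A T')) :=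
    hmap ▸ Algebra.FiniteType.trans hft this
  have hJB : IsJacobsonRing (B ⧸ (I.map (algebraMap A B))) := by
    letI : Algebra (A ⧸ I) (B ⧸ (I.map (algebraMap A B))) :=
      (Ideal.quotientMap _ (algebraMap A B) Ideal.le_comap_map).toAlgebra
    have : IsScalarTower A (A ⧸ I) (B ⧸ (I.map (algebraMap A B))) := IsScalarTower.of_algebraMap_eq fun _ => rfl
    have : Algebra.FiniteType (A ⧸ I) (B ⧸ (I.map (algebraMap A B))) :=
      Algebra.FiniteType.of_restrictScalars_finiteType A _ _
    exact isJacobsonRing_of_finiteType (A := A ⧸ I)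
  -- the points below `q'`
  set q := PrimeSpectrum.comap (algebraMap B T') q' with hqdef
  have hq := rigClosed_comap_of_isJacobsonRing hftB q' hq' hJB
  have hq'A : ¬ I.map (algebraMap A T') ≤ q'.asIdeal ∧
      ∀ y, q' ≤ y → ¬ I.map (algebraMap A T') ≤ y.asIdeal → y = q' := by
    rw [← hmap]; exact hq'
  have hp := rigClosed_comap_of_isJacobsonRing hftA q' hq'A hJ
  set p := (PrimeSpectrum.comap (algebraMap A T') q').asIdeal with hpdef
  have hfinq : Module.Finite A (T' ⧸ q'.asIdeal) :=
    ((tfae_rigClosed hftA q' hq'A).out 1 2).1 hp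
  -- flatness over `A`
  let M := Localization.AtPrime q'.asIdeal
  have : IsNoetherianRing M := IsLocalization.isNoetherianRing q'.asIdeal.primeCompl _ inferInstance
  let Bq := Localization.AtPrime q.asIdeal
  have hBq : Module.Flat A Bq := RingHom.flat_algebraMap_iff.1 (hnaive q hq)
  have : Module.Flat B T' := flat_cl (I.map (algebraMap A B)) (algebraMap A B f)
  have : Module.Flat T' M := IsLocalization.flat M q'.asIdeal.primeCompl
  have hBM : Module.Flat B M := Module.Flat.trans B T' M
  letI : Algebra Bq M :=
    (Localization.localRingHom q.asIdeal q'.asIdeal (algebraMap B T') rfl).toAlgebra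
  have : IsScalarTower B Bq M := IsScalarTower.of_algebraMap_eq fun x => by
    show algebraMap B M x = Localization.localRingHom q.asIdeal q'.asIdeal (algebraMap B T') rfl _
    rw [Localization.localRingHom_to_map, ← IsScalarTower.algebraMap_apply]
  have : Module.Flat Bq M :=
    (Module.flat_iff_of_isLocalization (S := Bq) q.asIdeal.primeCompl (M := M)).2 hBM
  have : IsScalarTower A Bq M := IsScalarTower.of_algebraMap_eq fun x => by
    rw [IsScalarTower.algebraMap_apply A B Bq, ← IsScalarTower.algebraMap_apply B Bq M,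
      IsScalarTower.algebraMap_apply B T' M, ← IsScalarTower.algebraMap_apply A B T',
      ← IsScalarTower.algebraMap_apply A T' M]
  have hAM : Module.Flat A M := Module.Flat.trans A Bq M
  -- the `T`-structure
  letI : Algebra T M := ((algebraMap T' M).comp ψ).toAlgebra
  have : IsScalarTower A T M := IsScalarTower.of_algebraMap_eq fun x => by
    show algebraMap A M x = algebraMap T' M (ψ (algebraMap A T x))
    rw [IsScalarTower.algebraMap_apply A (Localization.Away f) T, ← RingHom.comp_apply ψ, hψ,
      RingHom.comp_apply, IsScalarTower.algebraMap_apply A T' M]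
    congr 1
    rw [IsScalarTower.algebraMap_apply A B T',
      IsScalarTower.algebraMap_apply B (Localization.Away (algebraMap A B f)) T']
    congr 1
    exact (IsLocalization.map_eq _ x).symm
  show Module.Flat T M
  -- `f` is a unit modulo `p`
  have hunit : IsUnit (Ideal.Quotient.mk p f) := by
    letI : Algebra (A ⧸ p) (T' ⧸ q'.asIdeal) :=
      (Ideal.quotientMap q'.asIdeal (algebraMap A T') le_rfl).toAlgebra
    have : IsScalarTower A (A ⧸ p) (T' ⧸ q'.asIdeal) := IsScalarTower.of_algebraMap_eq fun _ => rfl
    have : Module.Finite (A ⧸ p) (T' ⧸ q'.asIdeal) := Module.Finite.of_restrictScalars_finite A _ _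
    have hint : (algebraMap (A ⧸ p) (T' ⧸ q'.asIdeal)).IsIntegral :=
      fun x => (Algebra.IsIntegral.isIntegral x)
    have hloc := hint.isLocalHom (Ideal.quotientMap_injective)
    refine hloc.map_nonunit _ ?_
    show IsUnit (Ideal.Quotient.mk q'.asIdeal (algebraMap A T' f))
    refine IsUnit.map _ ?_
    rw [IsScalarTower.algebraMap_apply A B T']
    exact isUnit_algebraMap_cl (I.map (algebraMap A B)) (algebraMap A B f)
  refine flat_of_forall_quotient_surjective p ?_ fun n t => ?_
  · rw [IsLocalRing.jacobson_eq_maximalIdeal ⊥ bot_ne_top, IsScalarTower.algebraMap_eq A T' M,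
      ← Ideal.map_map, ← Localization.AtPrime.map_eq_maximalIdeal]
    exact Ideal.map_mono Ideal.map_comap_le
  · have hu : IsUnit (Ideal.Quotient.mk (p ^ n) f) := by
      obtain ⟨u, hu⟩ := hunit.exists_left_inv
      obtain ⟨c, rfl⟩ := Ideal.Quotient.mk_surjective u
      have hmem : c * f - 1 ∈ p := Ideal.Quotient.eq.1 (by rw [map_mul, hu, map_one])
      have hnil : IsNilpotent (Ideal.Quotient.mk (p ^ n) (c * f - 1)) :=
        ⟨n, by rw [← map_pow, Ideal.Quotient.eq_zero_iff_mem]; exact Ideal.pow_mem_pow hmem n⟩
      have := hnil.isUnit_add_one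
      rw [map_sub, map_one, sub_add_cancel, map_mul] at this
      exact isUnit_of_mul_isUnit_right this
    obtain ⟨a, ha⟩ := (bijective_quotientMap I f (p ^ n) hu).2 (Ideal.Quotient.mk _ t)
    obtain ⟨a, rfl⟩ := Ideal.Quotient.mk_surjective a
    exact ⟨a, Ideal.Quotient.eq.1 ha.symm⟩

end GrothLib.RigClosed
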