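import Mathlib
import Groth.Agent.Lib.RigClosed.Flat

/-!
# Calculus of completed principal localizations and rig-closed points
-/

open scoped TensorProduct

namespace GrothLib.RigClosed

universe u

variable {A : Type u} [CommRing A] [IsNoetherianRing A] {I : Ideal A}

section Lift

variable {f : A} {X : Type u} [CommRing X] [Algebra A X] [IsAdicComplete (I.map (algebraMap A X)) X]

theorem exists_lift (hf : IsUnit (algebraMap A X f)) : Nonempty (CL I f →ₐ[A] X) := by
  let g : Localization.Away f →ₐ[A] X :=
    IsLocalization.liftAlgHom (M := Submonoid.powers f) (f := Algebra.ofId A X) (by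
      rintro ⟨_, k, rfl⟩
      rw [map_pow]
      exact hf.pow k)
  obtain ⟨G, -, -⟩ := GrothLib.RigidBase.existsUnique_extension (IsNoetherian.noetherian I) g
  exact ⟨G⟩

theorem lift_ext (G G' : CL I f →ₐ[A] X) : G = G' := by
  obtain ⟨H, -, hH⟩ := GrothLib.RigidBase.existsUnique_extension (IsNoetherian.noetherian I)
    (G.comp (IsScalarTower.toAlgHom A (Localization.Away f) (CL I f)))
  have hG' : G'.comp (IsScalarTower.toAlgHom A (Localization.Away f) (CL I f)) =
      G.comp (IsScalarTower.toAlgHom A (Localization.Away f) (CL I f)) :=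
    IsLocalization.algHom_ext (Submonoid.powers f) (AlgHom.ext fun x => by
      show G' (algebraMap _ (CL I f) (algebraMap A _ x)) = G (algebraMap _ (CL I f) (algebraMap A _ x))
      rw [← IsScalarTower.algebraMap_apply, G.commutes, G'.commutes])
  rw [hH G (fun s => rfl), hH G' (fun s => DFunLike.congr_fun hG' s)]

/-- A lift to a flat algebra is flat. -/
theorem flat_cl_lift [IsNoetherianRing X] [Module.Flat A X] [Algebra (CL I f) X]
    [IsScalarTower A (CL I f) X] : Module.Flat (CL I f) X := by
  let S := Localization.Away f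
  have : IsNoetherianRing S := IsLocalization.isNoetherianRing (Submonoid.powers f) _ inferInstance
  have := isNoetherianRing_cl I f
  letI : Algebra S X := ((algebraMap (CL I f) X).comp (algebraMap S (CL I f))).toAlgebra
  have : IsScalarTower S (CL I f) X := IsScalarTower.of_algebraMap_eq fun _ => rfl
  have : IsScalarTower A S X := IsScalarTower.of_algebraMap_eq fun x => by
    show _ = algebraMap (CL I f) X (algebraMap S (CL I f) (algebraMap A S x))
    rw [← IsScalarTower.algebraMap_apply A S (CL I f), ← IsScalarTower.algebraMap_apply]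
  have : Module.Flat S X :=
    (Module.flat_iff_of_isLocalization (S := S) (Submonoid.powers f) (M := X)).2 inferInstance
  refine flat_of_forall_quotient_surjective (A := S) (I.map (algebraMap A S)) ?_ fun n t => ?_
  · rw [Ideal.map_map, ← IsScalarTower.algebraMap_eq]
    exact IsAdicComplete.le_jacobson_bot _
  · obtain ⟨s, hs⟩ := GrothLib.RigidBase.exists_sub_mem_pow_map (R := A) (IsNoetherian.noetherian I) n t
    refine ⟨s, ?_⟩
    rw [← Ideal.map_pow, Ideal.map_map, ← IsScalarTower.algebraMap_eq]
    exact hs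

end Lift

section CL

variable {B : Type u} [CommRing B] [Algebra A B] [IsNoetherianRing B] (g : B)

theorem isScalarTower_cl (J : Ideal B) : IsScalarTower A B (CL J g) :=
  IsScalarTower.of_algebraMap_eq fun x => by
    rw [IsScalarTower.algebraMap_apply A (Localization.Away g) (CL J g),
      IsScalarTower.algebraMap_apply B (Localization.Away g) (CL J g),
      ← IsScalarTower.algebraMap_apply A B (Localization.Away g)]

omit [IsNoetherianRing A] [IsNoetherianRing B] in
theorem map_cl_eq (I : Ideal A) :
    (I.map (algebraMap A B)).map (algebraMap B (CL (I.map (algebraMap A B)) g)) =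
      I.map (algebraMap A (CL (I.map (algebraMap A B)) g)) := by
  have : IsScalarTower A B (CL (I.map (algebraMap A B)) g) := IsScalarTower.of_algebraMap_eq fun x => by
    rw [IsScalarTower.algebraMap_apply A (Localization.Away g) (CL (I.map (algebraMap A B)) g),
      IsScalarTower.algebraMap_apply B (Localization.Away g) (CL (I.map (algebraMap A B)) g),
      ← IsScalarTower.algebraMap_apply A B (Localization.Away g)]
  exact (Ideal.map_map _ _).trans
    (congrArg (Ideal.map · I) (IsScalarTower.algebraMap_eq A B _).symm)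

theorem isAdicComplete_cl' : IsAdicComplete (I.map (algebraMap A (CL (I.map (algebraMap A B)) g)))
    (CL (I.map (algebraMap A B)) g) :=
  map_cl_eq g I ▸ isAdicComplete_cl (I.map (algebraMap A B)) g

theorem finiteType_cl_self (J : Ideal B) :
    Algebra.FiniteType B (CL J g ⧸ J.map (algebraMap B (CL J g))) := by
  have : Algebra.FiniteType B (Localization.Away g) :=
    IsLocalization.finiteType_of_monoid_fg (Submonoid.powers g) _
  refine Algebra.FiniteType.of_surjective
    ((Ideal.Quotient.mkₐ B _).comp (IsScalarTower.toAlgHom B (Localization.Away g) (CL J g))) ?_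
  intro y
  obtain ⟨x, rfl⟩ := Ideal.Quotient.mk_surjective y
  obtain ⟨s, hs⟩ := GrothLib.RigidBase.exists_sub_mem_pow_map (R := B) (IsNoetherian.noetherian J) 1 x
  rw [pow_one] at hs
  exact ⟨s, (Ideal.Quotient.eq.2 hs).symm⟩

theorem finiteType_cl (hft : Algebra.FiniteType A (B ⧸ I.map (algebraMap A B))) :
    Algebra.FiniteType A (CL (I.map (algebraMap A B)) g ⧸
      I.map (algebraMap A (CL (I.map (algebraMap A B)) g))) := by
  rw [← map_cl_eq g I]
  set T := CL (I.map (algebraMap A B)) g
  have := isScalarTower_cl (A := A) g (I.map (algebraMap A B))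
  letI : Algebra (B ⧸ I.map (algebraMap A B)) (T ⧸ (I.map (algebraMap A B)).map (algebraMap B T)) :=
    (Ideal.quotientMap _ (algebraMap B T) Ideal.le_comap_map).toAlgebra
  have : IsScalarTower B (B ⧸ I.map (algebraMap A B))
      (T ⧸ (I.map (algebraMap A B)).map (algebraMap B T)) :=
    IsScalarTower.of_algebraMap_eq fun _ => rfl
  have : IsScalarTower A (B ⧸ I.map (algebraMap A B))
      (T ⧸ (I.map (algebraMap A B)).map (algebraMap B T)) :=
    IsScalarTower.of_algebraMap_eq fun x => by
      show algebraMap A _ x = Ideal.Quotient.mk _ (algebraMap B T (algebraMap A B x))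
      rw [← IsScalarTower.algebraMap_apply]
      rfl
  have := finiteType_cl_self g (I.map (algebraMap A B))
  have : Algebra.FiniteType (B ⧸ I.map (algebraMap A B))
      (T ⧸ (I.map (algebraMap A B)).map (algebraMap B T)) :=
    Algebra.FiniteType.of_restrictScalars_finiteType B _ _
  exact Algebra.FiniteType.trans hft this

variable [IsAdicComplete (I.map (algebraMap A B)) B]

/-- A rig-closed prime on which `g` is invertible persists in the completed localization. -/
theorem rigClosed_map_cl (q : PrimeSpectrum B)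
    (hq : ¬ I.map (algebraMap A B) ≤ q.asIdeal ∧ ∀ y : PrimeSpectrum B, q ≤ y →
      ¬ I.map (algebraMap A B) ≤ y.asIdeal → y = q)
    (hg : IsUnit (Ideal.Quotient.mk q.asIdeal g)) :
    ∃ q' : PrimeSpectrum (CL (I.map (algebraMap A B)) g),
      q'.asIdeal = q.asIdeal.map (algebraMap B _) ∧ PrimeSpectrum.comap (algebraMap B _) q' = q ∧
      (∀ x, ∃ b, x - algebraMap B _ b ∈ q'.asIdeal) ∧
      (¬ I.map (algebraMap A (CL (I.map (algebraMap A B)) g)) ≤ q'.asIdeal ∧
        ∀ y, q' ≤ y → ¬ I.map (algebraMap A (CL (I.map (algebraMap A B)) g)) ≤ y.asIdeal →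
          y = q') := by
  set J := I.map (algebraMap A B) with hJ
  obtain ⟨hinj, hsurj⟩ := bijective_quotientMap J g q.asIdeal hg
  have hprime := isPrime_map J g q.asIdeal hg
  have hb : ∀ x : CL J g, ∃ b, x - algebraMap B _ b ∈ q.asIdeal.map (algebraMap B (CL J g)) := by
    intro x
    obtain ⟨b, hb⟩ := hsurj (Ideal.Quotient.mk _ x)
    obtain ⟨b, rfl⟩ := Ideal.Quotient.mk_surjective b
    exact ⟨b, Ideal.Quotient.eq.1 hb.symm⟩
  have hcomap : (q.asIdeal.map (algebraMap B (CL J g))).comap (algebraMap B _) = q.asIdeal := by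
    refine le_antisymm (fun b hb' => ?_) Ideal.le_comap_map
    rw [← Ideal.Quotient.eq_zero_iff_mem, ← hinj.eq_iff, map_zero, Ideal.quotientMap_mk,
      Ideal.Quotient.eq_zero_iff_mem]
    exact hb'
  refine ⟨⟨_, hprime⟩, rfl, PrimeSpectrum.ext hcomap, hb, ?_, fun y hy hIy => ?_⟩
  · intro h
    rw [← map_cl_eq g I, Ideal.map_le_iff_le_comap] at h
    exact hq.1 (hcomap ▸ h)
  · rw [← map_cl_eq g I, Ideal.map_le_iff_le_comap] at hIy
    have := hq.2 (PrimeSpectrum.comap (algebraMap B _) y)
      (fun b hb' => hy (Ideal.mem_map_of_mem _ hb')) hIy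
    refine PrimeSpectrum.ext (le_antisymm (fun x hx => ?_) hy)
    obtain ⟨b, hb'⟩ := hb x
    have hby : algebraMap B (CL J g) b ∈ y.asIdeal := by
      simpa using sub_mem hx (hy hb')
    have hbq : b ∈ q.asIdeal := by rw [← this]; exact hby
    simpa using add_mem hb' (Ideal.mem_map_of_mem (algebraMap B (CL J g)) hbq)

/-- After inverting a suitable element of the base, a rig-closed quotient is finite over the
base. -/
theorem exists_finite_over (hft : Algebra.FiniteType A (B ⧸ I.map (algebraMap A B)))
    (q : PrimeSpectrum B)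
    (hq : ¬ I.map (algebraMap A B) ≤ q.asIdeal ∧ ∀ y : PrimeSpectrum B, q ≤ y →
      ¬ I.map (algebraMap A B) ≤ y.asIdeal → y = q) :
    ∃ f : A, IsUnit (Ideal.Quotient.mk q.asIdeal (algebraMap A B f)) ∧
      ∀ (T : Type u) [CommRing T] [Algebra A T] [IsAdicComplete (I.map (algebraMap A T)) T]
        [Algebra T (B ⧸ q.asIdeal)] [IsScalarTower A T (B ⧸ q.asIdeal)],
        IsUnit (algebraMap A T f) → Module.Finite T (B ⧸ q.asIdeal) := by
  classical
  obtain ⟨hloc, hprimes, hJ, hc⟩ := quotient_of_rigClosed q hq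
  set C := B ⧸ q.asIdeal
  have hmap : (I.map (algebraMap A B)).map (algebraMap B C) = I.map (algebraMap A C) := by
    rw [Ideal.map_map, ← IsScalarTower.algebraMap_eq]
  rw [hmap] at hJ hc hprimes
  set m := IsLocalRing.maximalIdeal C
  have hIm : I.map (algebraMap A C) ≤ m :=
    (IsAdicComplete.le_jacobson_bot _).trans (sInf_le ⟨bot_le, inferInstance⟩)
  have : Algebra.FiniteType A (C ⧸ m) := Algebra.FiniteType.of_surjective
    (Ideal.Quotient.liftₐ (I.map (algebraMap A B))
      ((Ideal.Quotient.mkₐ A m).comp (Ideal.Quotient.mkₐ A q.asIdeal)) fun a ha =>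
        Ideal.Quotient.eq_zero_iff_mem.2 (hIm (hmap ▸ Ideal.mem_map_of_mem (algebraMap B C) ha)))
    (fun y => by
      obtain ⟨y, rfl⟩ := Ideal.Quotient.mk_surjective y
      obtain ⟨b, rfl⟩ := Ideal.Quotient.mk_surjective y
      exact ⟨Ideal.Quotient.mk _ b, rfl⟩)
  -- Zariski's lemma
  letI : Field (C ⧸ m) := Ideal.Quotient.field m
  let k := A ⧸ RingHom.ker (algebraMap A (C ⧸ m))
  have : (RingHom.ker (algebraMap A (C ⧸ m))).IsPrime := RingHom.ker_isPrime _
  let F := FractionRing k
  letI : Algebra k (C ⧸ m) := (RingHom.kerLift (algebraMap A (C ⧸ m))).toAlgebra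
  have : IsScalarTower A k (C ⧸ m) := IsScalarTower.of_algebraMap_eq fun _ => rfl
  have : FaithfulSMul k (C ⧸ m) :=
    (faithfulSMul_iff_algebraMap_injective _ _).2 (RingHom.kerLift_injective _)
  letI : Algebra F (C ⧸ m) := FractionRing.liftAlgebra k (C ⧸ m)
  have : IsScalarTower k F (C ⧸ m) := FractionRing.isScalarTower_liftAlgebra k (C ⧸ m)
  have : Algebra.FiniteType k (C ⧸ m) := Algebra.FiniteType.of_restrictScalars_finiteType A k _
  have : Algebra.FiniteType F (C ⧸ m) := Algebra.FiniteType.of_restrictScalars_finiteType k F _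
  have : Module.Finite F (C ⧸ m) := finite_of_finite_type_of_isJacobsonRing F (C ⧸ m)
  have hint : ∀ x : C ⧸ m, ∃ a : A, algebraMap A (C ⧸ m) a ≠ 0 ∧ IsIntegral A (a • x) := by
    intro x
    obtain ⟨y, hy0, hy⟩ := ((IsFractionRing.isAlgebraic_iff k F (C ⧸ m)).2
      (IsAlgebraic.of_finite F x)).exists_integral_multiple
    obtain ⟨a, rfl⟩ := Ideal.Quotient.mk_surjective y
    refine ⟨a, fun h => hy0 (Ideal.Quotient.eq_zero_iff_mem.2 h), ?_⟩
    have : Module.Finite A k :=
      Module.Finite.of_surjective (Algebra.linearMap A k) Ideal.Quotient.mk_surjective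
    rw [← algebraMap_smul k a x]
    exact isIntegral_trans (R := A) _ hy
  choose a ha0 haint using hint
  obtain ⟨G, hG⟩ := (inferInstance : Algebra.FiniteType A (C ⧸ m)).out
  refine ⟨∏ x ∈ G, a x, ?_, fun T _ _ _ _ _ hu => ?_⟩
  · rw [← isUnit_map_iff (IsLocalRing.residue C)]
    show IsUnit (algebraMap A (C ⧸ m) (∏ x ∈ G, a x))
    rw [map_prod, isUnit_iff_ne_zero]
    exact Finset.prod_ne_zero_iff.2 fun x _ => ha0 x
  have hK : Module.Finite T (C ⧸ m) := by
    have hgen : Algebra.adjoin T (G : Set (C ⧸ m)) = ⊤ := by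
      refine top_le_iff.1 fun x _ => ?_
      have : (Algebra.adjoin A (G : Set (C ⧸ m))) ≤
          (Algebra.adjoin T (G : Set (C ⧸ m))).restrictScalars A :=
        Algebra.adjoin_le Algebra.subset_adjoin
      exact this (hG ▸ trivial)
    refine Module.finite_def.2 ?_
    rw [← Algebra.top_toSubmodule, ← hgen]
    refine fg_adjoin_of_finite G.finite_toSet fun x hx => ?_
    obtain ⟨u, hu'⟩ : IsUnit (algebraMap A T (a x)) :=
      isUnit_of_dvd_unit (map_dvd _ (Finset.dvd_prod_of_mem a hx)) hu
    have h1 : IsIntegral T (a x • x) := (haint x).tower_top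
    have h2 : x = (↑u⁻¹ : T) • (a x • x) := by
      rw [← algebraMap_smul T (a x) x, smul_smul, ← hu', Units.inv_mul, one_smul]
    rw [h2]
    exact h1.smul _
  have hmapT : (I.map (algebraMap A T)).map (algebraMap T C) = I.map (algebraMap A C) := by
    rw [Ideal.map_map, ← IsScalarTower.algebraMap_eq]
  have : IsHausdorff (I.map (algebraMap A T)) C := by
    have : IsAdicComplete ((I.map (algebraMap A T)).map (algebraMap T C)) C := by rw [hmapT]; exact hc
    exact ((IsAdicComplete.map_algebraMap_iff _ C).1 this).toIsHausdorff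
  refine finite_of_finite_residue (I := I.map (algebraMap A T)) ?_ hK
  rw [hmapT]
  refine Ideal.exists_pow_le_of_le_radical_of_fg ?_ (IsNoetherian.noetherian _)
  rw [Ideal.radical_eq_sInf]
  refine le_sInf fun P hP => ?_
  have hP0 : P ≠ ⊥ := fun hb => hJ (le_bot_iff.1 (hb ▸ hP.1))
  rw [IsLocalRing.eq_maximalIdeal (hprimes P hP.2 hP0).1]

/-- `exists_finite_over` for algebras in which the quotient by `q` persists. -/
theorem exists_finite_over' (hft : Algebra.FiniteType A (B ⧸ I.map (algebraMap A B)))
    (q : PrimeSpectrum B)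
    (hq : ¬ I.map (algebraMap A B) ≤ q.asIdeal ∧ ∀ y : PrimeSpectrum B, q ≤ y →
      ¬ I.map (algebraMap A B) ≤ y.asIdeal → y = q) :
    ∃ f : A, IsUnit (Ideal.Quotient.mk q.asIdeal (algebraMap A B f)) ∧
      ∀ (T E : Type u) [CommRing T] [Algebra A T] [IsAdicComplete (I.map (algebraMap A T)) T]
        [CommRing E] [Algebra A E] [Algebra B E] [IsScalarTower A B E] [Algebra T E]
        [IsScalarTower A T E] (Q : Ideal E), Q.comap (algebraMap B E) = q.asIdeal →
        (∀ x, ∃ b, x - algebraMap B E b ∈ Q) → IsUnit (algebraMap A T f) →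
        Module.Finite T (E ⧸ Q) := by
  obtain ⟨f, hf, hfin⟩ := exists_finite_over hft q hq
  refine ⟨f, hf, fun T E _ _ _ _ _ _ _ _ _ Q hQ hsurj hu => ?_⟩
  let e : (B ⧸ q.asIdeal) ≃+* E ⧸ Q :=
    RingEquiv.ofBijective (Ideal.quotientMap Q (algebraMap B E) hQ.ge)
      ⟨Ideal.quotientMap_injective' hQ.le, fun y => by
        obtain ⟨x, rfl⟩ := Ideal.Quotient.mk_surjective y
        obtain ⟨b, hb⟩ := hsurj x
        exact ⟨Ideal.Quotient.mk _ b, (Ideal.Quotient.eq.2 hb).symm⟩⟩
  letI : Algebra T (B ⧸ q.asIdeal) :=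
    ((e.symm : E ⧸ Q →+* B ⧸ q.asIdeal).comp (algebraMap T (E ⧸ Q))).toAlgebra
  have : IsScalarTower A T (B ⧸ q.asIdeal) := IsScalarTower.of_algebraMap_eq fun x => by
    show algebraMap A (B ⧸ q.asIdeal) x = e.symm (algebraMap T (E ⧸ Q) (algebraMap A T x))
    rw [← IsScalarTower.algebraMap_apply, RingEquiv.eq_symm_apply]
    show Ideal.Quotient.mk Q (algebraMap B E (algebraMap A B x)) = _
    rw [← IsScalarTower.algebraMap_apply]
    rfl
  have := hfin T hu
  refine Module.Finite.of_surjective
    ({ toFun := e, map_add' := map_add e, map_smul' := fun c x => ?_ } :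
      (B ⧸ q.asIdeal) →ₗ[T] E ⧸ Q) e.surjective
  rw [Algebra.smul_def, Algebra.smul_def, map_mul, RingHom.id_apply]
  show e (e.symm (algebraMap T (E ⧸ Q) c)) * e x = _
  rw [e.apply_symm_apply]

/-- Faithful flatness of local rings along flat maps. -/
theorem faithfullyFlat_localRing {X Y : Type u} [CommRing X] [CommRing Y] [Algebra X Y]
    [Module.Flat X Y] (P : Ideal X) [P.IsPrime] (Q : Ideal Y) [Q.IsPrime]
    (h : P = Q.comap (algebraMap X Y)) :
    letI := (Localization.localRingHom P Q (algebraMap X Y) h).toAlgebra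
    Module.FaithfullyFlat (Localization.AtPrime P) (Localization.AtPrime Q) ∧
      IsScalarTower X (Localization.AtPrime P) (Localization.AtPrime Q) := by
  letI := (Localization.localRingHom P Q (algebraMap X Y) h).toAlgebra
  have hT : IsScalarTower X (Localization.AtPrime P) (Localization.AtPrime Q) :=
    IsScalarTower.of_algebraMap_eq fun x => by
      show _ = Localization.localRingHom P Q (algebraMap X Y) h _
      rw [Localization.localRingHom_to_map, ← IsScalarTower.algebraMap_apply]
  have : Module.Flat X (Localization.AtPrime Q) := Module.Flat.trans X Y _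
  have : Module.Flat (Localization.AtPrime P) (Localization.AtPrime Q) :=
    (Module.flat_iff_of_isLocalization (S := Localization.AtPrime P) P.primeCompl
      (M := Localization.AtPrime Q)).2 inferInstance
  have : IsLocalHom (algebraMap (Localization.AtPrime P) (Localization.AtPrime Q)) :=
    Localization.isLocalHom_localRingHom P Q _ h
  exact ⟨Module.FaithfullyFlat.of_flat_of_isLocalHom, hT⟩

end CL

end GrothLib.RigClosed
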