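import Mathlib
import Groth.Agent.Lib.RigClosed.Localize
import Groth.Agent.Lib.Flatness.Fibre

/-!
# Rig-flat morphisms of adic rings
-/

namespace GrothLib.RigClosed

universe u

/-- A prime which is maximal among those not containing `J`. -/
abbrev RigClosed {R : Type u} [CommRing R] (J : Ideal R) (q : PrimeSpectrum R) : Prop :=
  ¬ J ≤ q.asIdeal ∧ ∀ y : PrimeSpectrum R, q ≤ y → ¬ J ≤ y.asIdeal → y = q

/-- Rig-flatness, in terms of algebra maps of completed localizations. -/
def RigFlat {A : Type u} [CommRing A] (I : Ideal A) (B : Type u) [CommRing B] [Algebra A B] : Prop :=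
  ∀ (f : A) (ψ : CL I f →ₐ[A] CL (I.map (algebraMap A B)) (algebraMap A B f))
    (q : PrimeSpectrum (CL (I.map (algebraMap A B)) (algebraMap A B f))),
    RigClosed (I.map (algebraMap A (CL (I.map (algebraMap A B)) (algebraMap A B f)))) q →
      ((algebraMap _ (Localization.AtPrime q.asIdeal)).comp ψ.toRingHom).Flat

section Iff

variable {A : Type u} [CommRing A] [IsNoetherianRing A] {I : Ideal A}
  {B : Type u} [CommRing B] [Algebra A B] [IsNoetherianRing B]

theorem comp_algebraMap_of_compatible (f : A)
    (ψ : CL I f →+* CL (I.map (algebraMap A B)) (algebraMap A B f))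
    (hψ : ψ.comp (algebraMap (Localization.Away f) (CL I f)) =
      (algebraMap (Localization.Away (algebraMap A B f))
        (CL (I.map (algebraMap A B)) (algebraMap A B f))).comp
        (Localization.awayMap (algebraMap A B) f)) (x : A) :
    ψ (algebraMap A (CL I f) x) =
      algebraMap A (CL (I.map (algebraMap A B)) (algebraMap A B f)) x := by
  have := isScalarTower_cl (A := A) (algebraMap A B f) (I.map (algebraMap A B))
  rw [IsScalarTower.algebraMap_apply A (Localization.Away f) (CL I f), ← RingHom.comp_apply ψ, hψ,
    RingHom.comp_apply, IsScalarTower.algebraMap_apply A B (CL (I.map (algebraMap A B)) _),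
    IsScalarTower.algebraMap_apply B (Localization.Away (algebraMap A B f))
      (CL (I.map (algebraMap A B)) _)]
  congr 1
  exact IsLocalization.map_eq _ x

theorem ideal_map_map_cl (g : B) :
    ((I.map (algebraMap A B)).map (algebraMap B (Localization.Away g))).map
      (algebraMap (Localization.Away g) (CL (I.map (algebraMap A B)) g)) =
      I.map (algebraMap A (CL (I.map (algebraMap A B)) g)) := by
  rw [← map_cl_eq g I]
  exact (Ideal.map_map (algebraMap B (Localization.Away g)) _).trans
    (congrArg (Ideal.map · (I.map (algebraMap A B))) (IsScalarTower.algebraMap_eq B _ _).symm)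

theorem rigFlat_iff : RigFlat I B ↔
    ∀ f : A, ∀ ψf : (AdicCompletion (I.map (algebraMap A (Localization.Away f))) (Localization.Away f)) →+*
      (AdicCompletion ((I.map (algebraMap A B)).map (algebraMap B (Localization.Away (algebraMap A B f))))
        (Localization.Away (algebraMap A B f))),
      ψf.comp (algebraMap (Localization.Away f) (CL I f)) =
        (algebraMap (Localization.Away (algebraMap A B f))
          (CL (I.map (algebraMap A B)) (algebraMap A B f))).comp
          (Localization.awayMap (algebraMap A B) f) →
      ∀ qf : PrimeSpectrum (CL (I.map (algebraMap A B)) (algebraMap A B f)),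
        RigClosed (((I.map (algebraMap A B)).map
          (algebraMap B (Localization.Away (algebraMap A B f)))).map
          (algebraMap (Localization.Away (algebraMap A B f))
            (CL (I.map (algebraMap A B)) (algebraMap A B f)))) qf →
          ((algebraMap _ (Localization.AtPrime qf.asIdeal)).comp ψf).Flat := by
  constructor
  · intro h f ψ hψ q hq
    rw [ideal_map_map_cl] at hq
    exact h f { ψ with commutes' := comp_algebraMap_of_compatible f ψ hψ } q hq
  · intro h f ψ q hq
    rw [← ideal_map_map_cl] at hq
    refine h f ψ.toRingHom (IsLocalization.ringHom_ext (Submonoid.powers f) (RingHom.ext fun x => ?_)) q hq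
    have := isScalarTower_cl (A := A) (algebraMap A B f) (I.map (algebraMap A B))
    show ψ (algebraMap _ (CL I f) (algebraMap A (Localization.Away f) x)) =
      algebraMap _ _ (Localization.awayMap (algebraMap A B) f (algebraMap A (Localization.Away f) x))
    rw [← IsScalarTower.algebraMap_apply, AlgHom.commutes,
      IsScalarTower.algebraMap_apply A B (CL (I.map (algebraMap A B)) _),
      IsScalarTower.algebraMap_apply B (Localization.Away (algebraMap A B f))
        (CL (I.map (algebraMap A B)) _)]
    congr 1
    exact (IsLocalization.map_eq _ x).symm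

end Iff

section Trans

variable {T S E : Type u} [CommRing T] [CommRing S] [CommRing E] [Algebra T S] [Algebra S E]
  [Algebra T E] [IsScalarTower T S E]

omit [Algebra T S] [IsScalarTower T S E] in
/-- Flatness at a prime passes through an intermediate local ring. -/
theorem flat_localRing_trans [Algebra T S] [IsScalarTower T S E] (Q : Ideal E) [Q.IsPrime]
    (h1 : Module.Flat T (Localization.AtPrime (Q.comap (algebraMap S E))))
    (h2 : Module.Flat S (Localization.AtPrime Q)) : Module.Flat T (Localization.AtPrime Q) := by
  set P := Q.comap (algebraMap S E)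
  letI : Algebra (Localization.AtPrime P) (Localization.AtPrime Q) :=
    (Localization.localRingHom P Q (algebraMap S E) rfl).toAlgebra
  have : IsScalarTower S (Localization.AtPrime P) (Localization.AtPrime Q) :=
    IsScalarTower.of_algebraMap_eq fun x => by
      show _ = Localization.localRingHom P Q (algebraMap S E) rfl _
      rw [Localization.localRingHom_to_map, ← IsScalarTower.algebraMap_apply]
  have : Module.Flat (Localization.AtPrime P) (Localization.AtPrime Q) :=
    (Module.flat_iff_of_isLocalization (S := Localization.AtPrime P) P.primeCompl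
      (M := Localization.AtPrime Q)).2 h2
  have : IsScalarTower T (Localization.AtPrime P) (Localization.AtPrime Q) :=
    IsScalarTower.of_algebraMap_eq fun x => by
      rw [IsScalarTower.algebraMap_apply T S (Localization.AtPrime P),
        ← IsScalarTower.algebraMap_apply S (Localization.AtPrime P),
        IsScalarTower.algebraMap_apply S E, ← IsScalarTower.algebraMap_apply T S E,
        ← IsScalarTower.algebraMap_apply]
  exact Module.Flat.trans T (Localization.AtPrime P) _

/-- Flatness at a prime descends along flat maps. -/
theorem flat_localRing_descend [Module.Flat S E] (Q : Ideal E) [Q.IsPrime]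
    (h : Module.Flat T (Localization.AtPrime Q)) :
    Module.Flat T (Localization.AtPrime (Q.comap (algebraMap S E))) := by
  set P := Q.comap (algebraMap S E) with hP
  obtain ⟨hff, hST⟩ := faithfullyFlat_localRing P Q hP
  letI : Algebra (Localization.AtPrime P) (Localization.AtPrime Q) :=
    (Localization.localRingHom P Q (algebraMap S E) hP).toAlgebra
  have := hST
  have := hff
  have : IsScalarTower T (Localization.AtPrime P) (Localization.AtPrime Q) :=
    IsScalarTower.of_algebraMap_eq fun x => by
      rw [IsScalarTower.algebraMap_apply T S (Localization.AtPrime P),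
        ← IsScalarTower.algebraMap_apply S (Localization.AtPrime P),
        IsScalarTower.algebraMap_apply S E, ← IsScalarTower.algebraMap_apply T S E,
        ← IsScalarTower.algebraMap_apply]
  exact GrothLib.Flatness.flat_of_faithfullyFlat (M := Localization.AtPrime Q)

/-- Finiteness of a quotient passes to an intermediate ring. -/
theorem finite_quotient_comap [IsNoetherianRing T] (Q : Ideal E) [Module.Finite T (E ⧸ Q)] :
    Module.Finite T (S ⧸ Q.comap (algebraMap S E)) :=
  Module.Finite.of_injective (Ideal.quotientMapₐ Q (IsScalarTower.toAlgHom T S E)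
    (I := Q.comap (algebraMap S E)) (le_refl _)).toLinearMap
    (Ideal.quotientMap_injective' (I := Q) (J := Q.comap (algebraMap S E)) (f := algebraMap S E)
      (H := le_refl _) (le_refl _))

end Trans

variable {A : Type u} [CommRing A] [IsNoetherianRing A] {I : Ideal A}
  {B : Type u} [CommRing B] [Algebra A B] [IsNoetherianRing B]

/-- The rig-closed point of `B_{f}` below a rig-closed point with finite quotient over `A_{f}`. -/
theorem rigFlat_flat_localRing (h : RigFlat I B) (f : A) (E : Type u) [CommRing E] [IsNoetherianRing E]
    [Algebra A E] [Algebra B E] [IsScalarTower A B E] [IsAdicComplete (I.map (algebraMap A E)) E]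
    [Module.Flat B E] [Algebra (CL I f) E] [IsScalarTower A (CL I f) E] (Q : PrimeSpectrum E)
    (hQ : RigClosed (I.map (algebraMap A E)) Q) [Module.Finite (CL I f) (E ⧸ Q.asIdeal)] :
    Module.Flat (CL I f) (Localization.AtPrime Q.asIdeal) := by
  let T := CL I f
  let Bf := CL (I.map (algebraMap A B)) (algebraMap A B f)
  have : IsScalarTower A B Bf := isScalarTower_cl _ _
  have : IsNoetherianRing T := isNoetherianRing_cl I f
  have : IsNoetherianRing Bf := isNoetherianRing_cl _ _
  have hunit : IsUnit (algebraMap A E f) := by
    rw [IsScalarTower.algebraMap_apply A T E]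
    exact (isUnit_algebraMap_cl I f).map _
  have hmap : (I.map (algebraMap A B)).map (algebraMap B E) = I.map (algebraMap A E) :=
    (Ideal.map_map _ _).trans (congrArg (Ideal.map · I) (IsScalarTower.algebraMap_eq A B E).symm)
  have : IsAdicComplete ((I.map (algebraMap A B)).map (algebraMap B E)) E := hmap ▸ inferInstance
  have : IsAdicComplete (I.map (algebraMap A Bf)) Bf := isAdicComplete_cl' _
  obtain ⟨G⟩ := exists_lift (A := B) (I := I.map (algebraMap A B)) (f := algebraMap A B f) (X := E)
    (by rwa [← IsScalarTower.algebraMap_apply])
  obtain ⟨ψ⟩ := exists_lift (I := I) (f := f) (X := Bf) (by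
    rw [IsScalarTower.algebraMap_apply A B Bf]; exact isUnit_algebraMap_cl _ _)
  letI : Algebra Bf E := G.toRingHom.toAlgebra
  letI : Algebra T Bf := ψ.toRingHom.toAlgebra
  have : IsScalarTower B Bf E := IsScalarTower.of_algebraMap_eq fun x => (G.commutes x).symm
  have : IsScalarTower T Bf E := IsScalarTower.of_algebraMap_eq fun x => DFunLike.congr_fun
    (lift_ext (IsScalarTower.toAlgHom A T E) ((G.restrictScalars A).comp ψ)) x
  have : IsScalarTower A Bf E := IsScalarTower.of_algebraMap_eq fun x => by
    rw [IsScalarTower.algebraMap_apply A B Bf, ← IsScalarTower.algebraMap_apply B Bf E,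
      ← IsScalarTower.algebraMap_apply]
  have : Module.Flat Bf E := flat_cl_lift
  have : Module.Finite Bf (E ⧸ Q.asIdeal) := Module.Finite.of_restrictScalars_finite T Bf _
  have hmapB : (I.map (algebraMap A Bf)).map (algebraMap Bf E) = I.map (algebraMap A E) :=
    (Ideal.map_map _ _).trans (congrArg (Ideal.map · I) (IsScalarTower.algebraMap_eq A Bf E).symm)
  have hQ' : RigClosed ((I.map (algebraMap A Bf)).map (algebraMap Bf E)) Q := by rwa [hmapB]
  have hP := rigClosed_comap_of_finite (I := I.map (algebraMap A Bf)) Q hQ'
  have h1 : Module.Flat T (Localization.AtPrime (Q.asIdeal.comap (algebraMap Bf E))) := by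
    have h3 := h f ψ (PrimeSpectrum.comap (algebraMap Bf E) Q) hP
    rw [show (algebraMap Bf _).comp ψ.toRingHom = algebraMap T
      (Localization.AtPrime (PrimeSpectrum.comap (algebraMap Bf E) Q).asIdeal) from
        RingHom.ext fun x => (IsScalarTower.algebraMap_apply T Bf _ x).symm,
      RingHom.flat_algebraMap_iff] at h3
    exact h3
  exact flat_localRing_trans Q.asIdeal h1 (Module.Flat.trans Bf E _)

end GrothLib.RigClosed
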