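import Mathlib
import Groth.Agent.Lib.RigClosed.RigFlat

/-!
# Compositions of rig-flat morphisms
-/

namespace GrothLib.RigClosed

universe u

variable {A : Type u} [CommRing A] [IsNoetherianRing A] {I : Ideal A}

section Descend

variable {T₀ E E' : Type u} [CommRing T₀] [Algebra A T₀] [CommRing E] [Algebra A E]
  [CommRing E'] [Algebra A E'] [Algebra E E'] [IsScalarTower A E E']

/-- Conclude flatness on a completed localization from a refinement. -/
theorem flat_of_refinement {e f : A} (ψ : CL I e →ₐ[A] E) [IsAdicComplete (I.map (algebraMap A E')) E']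
    [Algebra (CL I f) E'] [IsScalarTower A (CL I f) E'] [Module.Flat E E'] (q : PrimeSpectrum E)
    (Q : PrimeSpectrum E') (hQ : PrimeSpectrum.comap (algebraMap E E') Q = q) (hef : e ∣ f)
    (h : Module.Flat (CL I f) (Localization.AtPrime Q.asIdeal)) :
    ((algebraMap E (Localization.AtPrime q.asIdeal)).comp ψ.toRingHom).Flat := by
  subst hQ
  have := isNoetherianRing_cl I f
  have : IsAdicComplete (I.map (algebraMap A (CL I f))) (CL I f) := isAdicComplete_cl I f
  obtain ⟨θ⟩ := exists_lift (I := I) (f := e) (X := CL I f)
    (isUnit_of_dvd_unit (map_dvd _ hef) (isUnit_algebraMap_cl I f))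
  letI : Algebra (CL I e) (CL I f) := θ.toRingHom.toAlgebra
  letI : Algebra (CL I e) E := ψ.toRingHom.toAlgebra
  letI : Algebra (CL I e) E' := ((algebraMap E E').comp ψ.toRingHom).toAlgebra
  have : IsScalarTower A (CL I e) (CL I f) := IsScalarTower.of_algebraMap_eq fun x => (θ.commutes x).symm
  have : IsScalarTower (CL I e) E E' := IsScalarTower.of_algebraMap_eq fun _ => rfl
  have : IsScalarTower (CL I e) (CL I f) E' := IsScalarTower.of_algebraMap_eq fun x =>
    DFunLike.congr_fun (lift_ext ((IsScalarTower.toAlgHom A E E').comp ψ)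
      ((IsScalarTower.toAlgHom A (CL I f) E').comp θ)) x
  have : IsScalarTower (CL I e) (CL I f) (Localization.AtPrime Q.asIdeal) :=
    IsScalarTower.of_algebraMap_eq fun x => by
      rw [IsScalarTower.algebraMap_apply (CL I f) E', ← IsScalarTower.algebraMap_apply _ (CL I f) E',
        ← IsScalarTower.algebraMap_apply]
  have : Module.Flat A (CL I f) := flat_cl I f
  have : Module.Flat (CL I e) (CL I f) := flat_cl_lift
  have h2 := flat_localRing_descend (S := E) (T := CL I e) Q.asIdeal (Module.Flat.trans _ (CL I f) _)
  rw [← RingHom.flat_algebraMap_iff] at h2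
  exact h2

end Descend

variable [IsAdicComplete I A] {B : Type u} [CommRing B] [Algebra A B] [IsNoetherianRing B]
  [IsAdicComplete (I.map (algebraMap A B)) B]
  {C : Type u} [CommRing C] [Algebra A C] [Algebra B C] [IsScalarTower A B C] [IsNoetherianRing C]
  [IsAdicComplete (I.map (algebraMap A C)) C]

theorem rigFlat_comp (hftB : Algebra.FiniteType A (B ⧸ I.map (algebraMap A B)))
    (hftC : Algebra.FiniteType B (C ⧸ I.map (algebraMap A C))) (hAB : RigFlat I B)
    (hBC : RigFlat (I.map (algebraMap A B)) C) : RigFlat I C := by
  intro e ψ q hq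
  let E := CL (I.map (algebraMap A C)) (algebraMap A C e)
  have : IsScalarTower A C E := isScalarTower_cl _ _
  have : IsScalarTower B C E := isScalarTower_cl _ _
  have : IsScalarTower A B E := IsScalarTower.of_algebraMap_eq fun x =>
    ((IsScalarTower.algebraMap_apply A C E x).trans
      (congrArg (algebraMap C E) (IsScalarTower.algebraMap_apply A B C x))).trans
      (IsScalarTower.algebraMap_apply B C E _).symm
  have : IsNoetherianRing E := isNoetherianRing_cl _ _
  have : IsAdicComplete (I.map (algebraMap A E)) E := isAdicComplete_cl' _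
  have hBCmap : (I.map (algebraMap A B)).map (algebraMap B C) = I.map (algebraMap A C) :=
    (Ideal.map_map _ _).trans (congrArg (Ideal.map · I) (IsScalarTower.algebraMap_eq A B C).symm)
  have hBEmap : (I.map (algebraMap A B)).map (algebraMap B E) = I.map (algebraMap A E) :=
    (Ideal.map_map _ _).trans (congrArg (Ideal.map · I) (IsScalarTower.algebraMap_eq A B E).symm)
  have : IsAdicComplete ((I.map (algebraMap A B)).map (algebraMap B E)) E := hBEmap ▸ inferInstance
  have hftBE : Algebra.FiniteType B (E ⧸ (I.map (algebraMap A B)).map (algebraMap B E)) := by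
    rw [hBEmap, ← map_cl_eq (algebraMap A C e) I]
    letI : Algebra (C ⧸ I.map (algebraMap A C)) (E ⧸ (I.map (algebraMap A C)).map (algebraMap C E)) :=
      (Ideal.quotientMap _ (algebraMap C E) Ideal.le_comap_map).toAlgebra
    have : IsScalarTower C (C ⧸ I.map (algebraMap A C))
        (E ⧸ (I.map (algebraMap A C)).map (algebraMap C E)) :=
      IsScalarTower.of_algebraMap_eq fun _ => rfl
    have : IsScalarTower B (C ⧸ I.map (algebraMap A C))
        (E ⧸ (I.map (algebraMap A C)).map (algebraMap C E)) :=
      IsScalarTower.of_algebraMap_eq fun x => by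
        show algebraMap B _ x = Ideal.Quotient.mk _ (algebraMap C E (algebraMap B C x))
        rw [← IsScalarTower.algebraMap_apply]
        rfl
    have := finiteType_cl_self (algebraMap A C e) (I.map (algebraMap A C))
    have : Algebra.FiniteType (C ⧸ I.map (algebraMap A C))
        (E ⧸ (I.map (algebraMap A C)).map (algebraMap C E)) :=
      Algebra.FiniteType.of_restrictScalars_finiteType C _ _
    exact Algebra.FiniteType.trans hftC this
  have hftAE : Algebra.FiniteType A (E ⧸ I.map (algebraMap A E)) := by
    letI : Algebra (B ⧸ I.map (algebraMap A B)) (E ⧸ I.map (algebraMap A E)) :=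
      (Ideal.quotientMap _ (algebraMap B E) (by rw [← Ideal.map_le_iff_le_comap, hBEmap])).toAlgebra
    have : IsScalarTower B (B ⧸ I.map (algebraMap A B)) (E ⧸ I.map (algebraMap A E)) :=
      IsScalarTower.of_algebraMap_eq fun _ => rfl
    have : IsScalarTower A (B ⧸ I.map (algebraMap A B)) (E ⧸ I.map (algebraMap A E)) :=
      IsScalarTower.of_algebraMap_eq fun x => by
        show algebraMap A _ x = Ideal.Quotient.mk _ (algebraMap B E (algebraMap A B x))
        rw [← IsScalarTower.algebraMap_apply]
        rfl
    have : Algebra.FiniteType B (E ⧸ I.map (algebraMap A E)) := hBEmap ▸ hftBE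
    have : Algebra.FiniteType (B ⧸ I.map (algebraMap A B)) (E ⧸ I.map (algebraMap A E)) :=
      Algebra.FiniteType.of_restrictScalars_finiteType B _ _
    exact Algebra.FiniteType.trans hftB this
  have hqB : RigClosed ((I.map (algebraMap A B)).map (algebraMap B E)) q := by rwa [hBEmap]
  obtain ⟨a, ha, hfina⟩ := exists_finite_over' hftAE q hq
  obtain ⟨b, hb, -⟩ := exists_finite_over' hftBE q hqB
  -- the refinement
  let g : E := algebraMap A E a * algebraMap B E b
  obtain ⟨q', -, hq'c, hsurj, hq'⟩ := rigClosed_map_cl g q hq (by rw [map_mul]; exact ha.mul hb)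
  let E' := CL (I.map (algebraMap A E)) g
  have : IsScalarTower A E E' := isScalarTower_cl _ _
  have : IsScalarTower B E E' := isScalarTower_cl _ _
  have : IsScalarTower C E E' := isScalarTower_cl _ _
  have : IsScalarTower A B E' := IsScalarTower.of_algebraMap_eq fun x => by
    rw [IsScalarTower.algebraMap_apply A E E', IsScalarTower.algebraMap_apply A B E,
      ← IsScalarTower.algebraMap_apply B E E']
  have : IsScalarTower B C E' := IsScalarTower.of_algebraMap_eq fun x => by
    rw [IsScalarTower.algebraMap_apply B E E', IsScalarTower.algebraMap_apply B C E,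
      ← IsScalarTower.algebraMap_apply C E E']
  have : IsNoetherianRing E' := isNoetherianRing_cl _ _
  have hcE' : IsAdicComplete (I.map (algebraMap A E')) E' := isAdicComplete_cl' _
  have : Module.Flat E E' := flat_cl _ _
  have : Module.Flat C E := flat_cl _ _
  have : Module.Flat C E' := Module.Flat.trans C E E'
  have hue : IsUnit (algebraMap A E' e) := by
    rw [IsScalarTower.algebraMap_apply A E E', IsScalarTower.algebraMap_apply A C E]
    exact (isUnit_algebraMap_cl _ _).map _
  have hug : IsUnit (algebraMap E E' g) := isUnit_algebraMap_cl _ _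
  have hua : IsUnit (algebraMap A E' a) := by
    rw [IsScalarTower.algebraMap_apply A E E']
    exact isUnit_of_mul_isUnit_left (by rwa [← map_mul])
  have hub : IsUnit (algebraMap B E' b) := by
    rw [IsScalarTower.algebraMap_apply B E E']
    exact isUnit_of_mul_isUnit_right (by rwa [← map_mul])
  let f := e * a
  let T := CL I f
  have : IsNoetherianRing T := isNoetherianRing_cl I f
  have : IsAdicComplete (I.map (algebraMap A T)) T := isAdicComplete_cl I f
  obtain ⟨φ⟩ := exists_lift (I := I) (f := f) (X := E') (by rw [map_mul]; exact hue.mul hua)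
  letI : Algebra T E' := φ.toRingHom.toAlgebra
  have : IsScalarTower A T E' := IsScalarTower.of_algebraMap_eq fun x => (φ.commutes x).symm
  have : Module.Finite T (E' ⧸ q'.asIdeal) := hfina T E' q'.asIdeal
    (congrArg PrimeSpectrum.asIdeal hq'c) hsurj
    (isUnit_of_dvd_unit (map_dvd _ (dvd_mul_left a e)) (isUnit_algebraMap_cl I f))
  let gB := algebraMap A B f * b
  let S := CL (I.map (algebraMap A B)) gB
  have : IsNoetherianRing S := isNoetherianRing_cl _ _
  have : IsAdicComplete (I.map (algebraMap A S)) S := isAdicComplete_cl' _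
  have : IsScalarTower A B S := isScalarTower_cl _ _
  have hBE'map : (I.map (algebraMap A B)).map (algebraMap B E') = I.map (algebraMap A E') :=
    (Ideal.map_map _ _).trans (congrArg (Ideal.map · I) (IsScalarTower.algebraMap_eq A B E').symm)
  have : IsAdicComplete ((I.map (algebraMap A B)).map (algebraMap B E')) E' := hBE'map ▸ hcE'
  obtain ⟨G⟩ := exists_lift (A := B) (I := I.map (algebraMap A B)) (f := gB) (X := E') (by
    rw [map_mul, ← IsScalarTower.algebraMap_apply, map_mul]; exact (hue.mul hua).mul hub)
  letI : Algebra S E' := G.toRingHom.toAlgebra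
  have : IsScalarTower B S E' := IsScalarTower.of_algebraMap_eq fun x => (G.commutes x).symm
  obtain ⟨σ⟩ := exists_lift (I := I) (f := f) (X := S) (by
    rw [IsScalarTower.algebraMap_apply A B S]
    exact isUnit_of_mul_isUnit_left (by rw [← map_mul]; exact isUnit_algebraMap_cl _ gB))
  letI : Algebra T S := σ.toRingHom.toAlgebra
  have : IsScalarTower A T S := IsScalarTower.of_algebraMap_eq fun x => (σ.commutes x).symm
  have : IsScalarTower T S E' := IsScalarTower.of_algebraMap_eq fun x => DFunLike.congr_fun
    (lift_ext φ ((G.restrictScalars A).comp σ)) x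
  have : IsScalarTower A S E' := IsScalarTower.of_algebraMap_eq fun x => by
    rw [IsScalarTower.algebraMap_apply A B S, ← IsScalarTower.algebraMap_apply B S E',
      ← IsScalarTower.algebraMap_apply]
  have : Module.Finite S (E' ⧸ q'.asIdeal) := Module.Finite.of_restrictScalars_finite T S _
  have h2 : Module.Flat S (Localization.AtPrime q'.asIdeal) :=
    rigFlat_flat_localRing hBC gB E' q' (by rwa [hBE'map])
  have hSmap : (I.map (algebraMap A S)).map (algebraMap S E') = I.map (algebraMap A E') :=
    (Ideal.map_map _ _).trans (congrArg (Ideal.map · I) (IsScalarTower.algebraMap_eq A S E').symm)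
  have hP2 := rigClosed_comap_of_finite (I := I.map (algebraMap A S)) q' (by rwa [hSmap])
  have : Module.Flat B S := flat_cl _ _
  have : Module.Finite T (S ⧸ (PrimeSpectrum.comap (algebraMap S E') q').asIdeal) :=
    finite_quotient_comap q'.asIdeal
  have h1 := rigFlat_flat_localRing hAB f S (PrimeSpectrum.comap (algebraMap S E') q') hP2
  exact flat_of_refinement ψ q q' hq'c (dvd_mul_right e a)
    (flat_localRing_trans q'.asIdeal h1 h2)

end GrothLib.RigClosed
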