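import Mathlib
import Groth.Agent.Lib.RigClosed.Basic

/-!
# Formally unramified adic maps at rig-closed points
-/

open scoped TensorProduct

namespace GrothLib.RigClosed

universe u

theorem map_comap_eq_maximalIdeal {A : Type u} [CommRing A] [IsNoetherianRing A] {I : Ideal A}
    [IsAdicComplete I A] {B : Type u} [CommRing B] [Algebra A B] [IsNoetherianRing B]
    [IsAdicComplete (I.map (algebraMap A B)) B]
    (hft : Algebra.FiniteType A (B ⧸ I.map (algebraMap A B)))
    [Algebra.FormallyUnramified A (B ⧸ I.map (algebraMap A B))] (q : PrimeSpectrum B)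
    (hp : ¬ I ≤ (PrimeSpectrum.comap (algebraMap A B) q).asIdeal ∧ ∀ y : PrimeSpectrum A,
      (PrimeSpectrum.comap (algebraMap A B) q) ≤ y → ¬ I ≤ y.asIdeal →
        y = (PrimeSpectrum.comap (algebraMap A B) q)) :
    ((PrimeSpectrum.comap (algebraMap A B) q).asIdeal.map (algebraMap A B)).map
      (algebraMap B (Localization.AtPrime q.asIdeal)) =
        IsLocalRing.maximalIdeal (Localization.AtPrime q.asIdeal) := by
  set p := (PrimeSpectrum.comap (algebraMap A B) q).asIdeal with hpdef
  obtain ⟨hloc, hprimes, hI0, -⟩ := GrothLib.RigClosed.quotient_of_rigClosed _ hp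
  let D := B ⧸ p.map (algebraMap A B)
  let E := D ⧸ I.map (algebraMap A D)
  have hmapD : (I.map (algebraMap A B)).map (algebraMap B D) = I.map (algebraMap A D) := by
    rw [Ideal.map_map, ← IsScalarTower.algebraMap_eq]
  have hcD : IsAdicComplete (I.map (algebraMap A D)) D := by
    rw [← hmapD]
    exact (IsAdicComplete.map_algebraMap_iff (I.map (algebraMap A B)) D).2
      (GrothLib.AdicLim.isAdicComplete_of_finite _ D)
  have hcD' : IsAdicComplete I D := (IsAdicComplete.map_algebraMap_iff I D).1 hcD
  -- the reduction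
  let π : (B ⧸ I.map (algebraMap A B)) →ₐ[A] E :=
    Ideal.Quotient.liftₐ _ ((Ideal.Quotient.mkₐ A _).comp (Ideal.Quotient.mkₐ A _)) (fun a ha =>
      Ideal.Quotient.eq_zero_iff_mem.2 (hmapD ▸ Ideal.mem_map_of_mem _ ha))
  have hπ : Function.Surjective π := fun y => by
    obtain ⟨y, rfl⟩ := Ideal.Quotient.mk_surjective y
    obtain ⟨b, rfl⟩ := Ideal.Quotient.mk_surjective y
    exact ⟨Ideal.Quotient.mk _ b, rfl⟩
  have : Algebra.FiniteType A E := Algebra.FiniteType.of_surjective π hπ
  have hFE : Algebra.FormallyUnramified A E := Algebra.FormallyUnramified.of_surjective π hπ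
  have hart : IsArtinianRing (A ⧸ (I ⊔ p)) := by
    refine isArtinianRing_iff_isNoetherianRing_krullDimLE_zero.2 ⟨inferInstance, ?_⟩
    refine Ring.krullDimLE_zero_iff.2 fun P hP => ?_
    set P' := P.comap (Ideal.Quotient.factor (le_sup_right : p ≤ I ⊔ p)) with hP'
    have hP'p : P'.IsPrime := Ideal.comap_isPrime _ _
    have hIP : I.map (algebraMap A (A ⧸ p)) ≤ P' := by
      rw [Ideal.map_le_iff_le_comap]
      intro a ha
      show Ideal.Quotient.mk (I ⊔ p) a ∈ P
      rw [Ideal.Quotient.eq_zero_iff_mem.2 (Ideal.mem_sup_left ha)]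
      exact P.zero_mem
    have hmax := (hprimes P' hP'p fun h => hI0 (le_bot_iff.1 (h ▸ hIP))).1
    rw [← Ideal.map_comap_of_surjective _ (Ideal.Quotient.factor_surjective
      (le_sup_right : p ≤ I ⊔ p)) P]
    exact (Ideal.map_eq_top_or_isMaximal_of_surjective _ (Ideal.Quotient.factor_surjective _)
      hmax).resolve_left (by
      rw [Ideal.map_comap_of_surjective _ (Ideal.Quotient.factor_surjective _)]; exact hP.ne_top)
  letI : Algebra (A ⧸ (I ⊔ p)) E :=
    (Ideal.Quotient.lift (I ⊔ p) (algebraMap A E) (by
      intro a ha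
      rw [← RingHom.mem_ker]
      refine (?_ : I ⊔ p ≤ RingHom.ker (algebraMap A E)) ha
      refine sup_le (fun x hx => ?_) (fun x hx => ?_)
      · exact Ideal.Quotient.eq_zero_iff_mem.2 (Ideal.mem_map_of_mem _ hx)
      · rw [RingHom.mem_ker, IsScalarTower.algebraMap_apply A D E,
          show algebraMap A D x = 0 from Ideal.Quotient.eq_zero_iff_mem.2
            (Ideal.mem_map_of_mem _ hx), map_zero])).toAlgebra
  have : IsScalarTower A (A ⧸ (I ⊔ p)) E := IsScalarTower.of_algebraMap_eq fun _ => rfl
  have : Algebra.FiniteType (A ⧸ (I ⊔ p)) E := Algebra.FiniteType.of_restrictScalars_finiteType A _ _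
  have : Algebra.FormallyUnramified (A ⧸ (I ⊔ p)) E :=
    Algebra.FormallyUnramified.of_restrictScalars A _ _
  have : Module.Finite (A ⧸ (I ⊔ p)) E := Module.Finite.of_quasiFinite
  have : Module.Finite A E := Module.Finite.trans (A ⧸ (I ⊔ p)) E
  have : Module.Finite A (D ⧸ (I • ⊤ : Submodule A D)) :=
    Module.Finite.equiv ((Submodule.quotEquivOfEq _ _ (Ideal.smul_top_eq_map I)).trans
      (Submodule.Quotient.restrictScalarsEquiv A (I.map (algebraMap A D)))).symm
  have hfin : Module.Finite A D := GrothLib.AdicExtra.finite_of_quotient_finite (I := I) this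
  -- `D` is formally unramified
  have hFD : Algebra.FormallyUnramified A D := by
    constructor
    have h0 : Subsingleton (E ⊗[D] Ω[D⁄A]) := by
      have := hFE.1
      refine subsingleton_of_forall_eq 0 fun x => ?_
      obtain ⟨x, rfl⟩ := (KaehlerDifferential.exact_kerCotangentToTensor_mapBaseChange A D E
        Ideal.Quotient.mk_surjective x).mp (Subsingleton.elim _ _)
      obtain ⟨⟨x, hx⟩, rfl⟩ := Ideal.toCotangent_surjective _ x
      simp only [KaehlerDifferential.kerCotangentToTensor_toCotangent]
      have hx' : x ∈ I.map (algebraMap A D) := by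
        rwa [← Ideal.mk_ker (I := I.map (algebraMap A D))]
      clear hx
      induction hx' using Submodule.span_induction with
      | zero => simp
      | mem x h => obtain ⟨x, -, rfl⟩ := h; simp
      | add x y hx hy h1 h2 =>
        simp only [map_add, TensorProduct.tmul_add, h1, h2, add_zero]
      | smul a x hx h1 =>
        rw [smul_eq_mul, Derivation.leibniz, TensorProduct.tmul_add, TensorProduct.tmul_smul,
          h1, smul_zero, zero_add, ← TensorProduct.smul_tmul,
          show x • (1 : E) = 0 from (Algebra.algebraMap_eq_smul_one x).symm.trans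
            (Ideal.Quotient.eq_zero_iff_mem.2 hx), TensorProduct.zero_tmul]
    have h1 := (TensorProduct.quotTensorEquivQuotSMul (Ω[D⁄A]) (I.map (algebraMap A D))).symm.subsingleton
    have h2 : (⊤ : Submodule D (Ω[D⁄A])) ≤ I.map (algebraMap A D) • ⊤ := fun x _ =>
      (Submodule.Quotient.mk_eq_zero _).1 (Subsingleton.elim _ _)
    have h3 := Submodule.eq_bot_of_le_smul_of_le_jacobson_bot _ _ (Module.Finite.fg_top) h2
      (IsAdicComplete.le_jacobson_bot _)
    exact subsingleton_of_forall_eq 0 fun x => (Submodule.mem_bot D).1 (h3 ▸ trivial)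
  -- localize at `q`
  have hpq : p.map (algebraMap A B) ≤ q.asIdeal := Ideal.map_comap_le
  let Q : Ideal D := q.asIdeal.map (Ideal.Quotient.mk (p.map (algebraMap A B)))
  have hQ : Q.IsPrime := Ideal.map_isPrime_of_surjective Ideal.Quotient.mk_surjective
    (by rwa [Ideal.mk_ker])
  have hQc : Q.comap (Ideal.Quotient.mk (p.map (algebraMap A B))) = q.asIdeal := by
    rw [Ideal.comap_map_of_surjective' _ Ideal.Quotient.mk_surjective, Ideal.mk_ker,
      sup_eq_left.2 hpq]
  have hQA : Q.comap (algebraMap A D) = p :=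
    (congrArg (Ideal.comap (algebraMap A B)) hQc : _)
  let R := Localization.AtPrime p
  let S := Localization.AtPrime Q
  letI : Algebra R S := (Localization.localRingHom p Q (algebraMap A D) hQA.symm).toAlgebra
  have : IsScalarTower A R S := IsScalarTower.of_algebraMap_eq fun x => by
    show algebraMap A S x = Localization.localRingHom p Q (algebraMap A D) hQA.symm _
    rw [Localization.localRingHom_to_map, ← IsScalarTower.algebraMap_apply]
  have : IsLocalHom (algebraMap R S) := Localization.isLocalHom_localRingHom p Q _ _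
  have : Algebra.FormallyUnramified D S := Algebra.FormallyUnramified.of_isLocalization Q.primeCompl
  have : Algebra.FormallyUnramified A S := Algebra.FormallyUnramified.comp A D S
  have : Algebra.FormallyUnramified R S := Algebra.FormallyUnramified.of_restrictScalars A R S
  have : Algebra.EssFiniteType A S := Algebra.EssFiniteType.comp A D S
  have : Algebra.EssFiniteType R S := Algebra.EssFiniteType.of_comp A R S
  have hmax : IsLocalRing.maximalIdeal S = ⊥ := by
    rw [← Algebra.FormallyUnramified.map_maximalIdeal (R := R) (S := S),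
      ← Localization.AtPrime.map_eq_maximalIdeal, Ideal.map_map, ← IsScalarTower.algebraMap_eq,
      IsScalarTower.algebraMap_eq A D S, ← Ideal.map_map,
      show p.map (algebraMap A D) = ⊥ by
        rw [IsScalarTower.algebraMap_eq A B D, ← Ideal.map_map, Ideal.Quotient.algebraMap_eq]
        exact Ideal.map_quotient_self _,
      Ideal.map_bot]
  refine le_antisymm (Ideal.map_le_iff_le_comap.2 fun x hx => ?_) ?_
  · rw [Ideal.mem_comap, IsLocalization.AtPrime.to_map_mem_maximal_iff _ q.asIdeal]
    exact hpq hx
  · rw [← Localization.AtPrime.map_eq_maximalIdeal, Ideal.map_le_iff_le_comap]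
    intro x hx
    have h0 : algebraMap D S (Ideal.Quotient.mk _ x) = 0 := by
      rw [← Submodule.mem_bot S, ← hmax, IsLocalization.AtPrime.to_map_mem_maximal_iff _ Q]
      exact Ideal.mem_map_of_mem _ hx
    obtain ⟨⟨s, hs⟩, hsx⟩ := (IsLocalization.map_eq_zero_iff Q.primeCompl S _).1 h0
    obtain ⟨b, rfl⟩ := Ideal.Quotient.mk_surjective s
    replace hsx := Ideal.Quotient.eq_zero_iff_mem.1 ((map_mul _ b x).trans hsx)
    have hb : b ∉ q.asIdeal := fun h => hs (Ideal.mem_map_of_mem _ h)
    have h4 := Ideal.mem_map_of_mem (algebraMap B (Localization.AtPrime q.asIdeal)) hsx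
    rw [map_mul] at h4
    exact Ideal.mem_comap.2 ((Ideal.unit_mul_mem_iff_mem _ (IsLocalization.map_units (Localization.AtPrime q.asIdeal) (⟨b, hb⟩ : q.asIdeal.primeCompl))).1 h4)

end GrothLib.RigClosed
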