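import Mathlib
import Groth.Agent.Lib.RigClosed.RigFlatComp
import Groth.Agent.Lib.RigClosed.Unramified

/-!
# Rig-flatness after an etale change of base
-/

namespace GrothLib.RigClosed

universe u

variable {A : Type u} [CommRing A] [IsNoetherianRing A] {I : Ideal A}

omit [IsNoetherianRing A] in
/-- Finite type reductions compose. -/
theorem finiteType_trans {B C : Type u} [CommRing B] [CommRing C] [Algebra A B] [Algebra B C]
    [Algebra A C] [IsScalarTower A B C]
    (hB : Algebra.FiniteType A (B ⧸ I.map (algebraMap A B)))
    (hC : Algebra.FiniteType B (C ⧸ I.map (algebraMap A C))) :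
    Algebra.FiniteType A (C ⧸ I.map (algebraMap A C)) := by
  have hmap : (I.map (algebraMap A B)).map (algebraMap B C) = I.map (algebraMap A C) :=
    (Ideal.map_map _ _).trans (congrArg (Ideal.map · I) (IsScalarTower.algebraMap_eq A B C).symm)
  letI : Algebra (B ⧸ I.map (algebraMap A B)) (C ⧸ I.map (algebraMap A C)) :=
    (Ideal.quotientMap _ (algebraMap B C) (by rw [← Ideal.map_le_iff_le_comap, hmap])).toAlgebra
  have : IsScalarTower B (B ⧸ I.map (algebraMap A B)) (C ⧸ I.map (algebraMap A C)) :=
    IsScalarTower.of_algebraMap_eq fun _ => rfl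
  have : IsScalarTower A (B ⧸ I.map (algebraMap A B)) (C ⧸ I.map (algebraMap A C)) :=
    IsScalarTower.of_algebraMap_eq fun x =>
      congrArg (Ideal.Quotient.mk (I.map (algebraMap A C))) (IsScalarTower.algebraMap_apply A B C x)
  have : Algebra.FiniteType (B ⧸ I.map (algebraMap A B)) (C ⧸ I.map (algebraMap A C)) :=
    Algebra.FiniteType.of_restrictScalars_finiteType B _ _
  exact Algebra.FiniteType.trans hB this

theorem formallyUnramified_cl {A' : Type u} [CommRing A'] [Algebra A A'] [IsNoetherianRing A']
    [Algebra.FormallyUnramified A (A' ⧸ I.map (algebraMap A A'))] (g : A') :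
    Algebra.FormallyUnramified A (CL (I.map (algebraMap A A')) g ⧸
      I.map (algebraMap A (CL (I.map (algebraMap A A')) g))) := by
  rw [← map_cl_eq g I]
  have := isScalarTower_cl (A := A) g (I.map (algebraMap A A'))
  let T := CL (I.map (algebraMap A A')) g
  let Tb := T ⧸ (I.map (algebraMap A A')).map (algebraMap A' T)
  have : Algebra.FormallyUnramified A' (Localization.Away g) :=
    Algebra.FormallyUnramified.of_isLocalization (Submonoid.powers g)
  have : Algebra.FormallyUnramified A' Tb := Algebra.FormallyUnramified.of_surjective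
    ((Ideal.Quotient.mkₐ A' _).comp (IsScalarTower.toAlgHom A' (Localization.Away g) T)) fun y => by
      obtain ⟨x, rfl⟩ := Ideal.Quotient.mk_surjective y
      obtain ⟨s, hs⟩ := GrothLib.RigidBase.exists_sub_mem_pow_map (R := A')
        (IsNoetherian.noetherian (I.map (algebraMap A A'))) 1 x
      rw [pow_one] at hs
      exact ⟨s, (Ideal.Quotient.eq.2 hs).symm⟩
  letI : Algebra (A' ⧸ I.map (algebraMap A A')) Tb :=
    (Ideal.quotientMap _ (algebraMap A' T) Ideal.le_comap_map).toAlgebra
  have : IsScalarTower A' (A' ⧸ I.map (algebraMap A A')) Tb :=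
    IsScalarTower.of_algebraMap_eq fun _ => rfl
  have : IsScalarTower A (A' ⧸ I.map (algebraMap A A')) Tb :=
    IsScalarTower.of_algebraMap_eq fun x =>
      congrArg (Ideal.Quotient.mk ((I.map (algebraMap A A')).map (algebraMap A' T)))
        (IsScalarTower.algebraMap_apply A A' T x)
  have : Algebra.FormallyUnramified (A' ⧸ I.map (algebraMap A A')) Tb :=
    Algebra.FormallyUnramified.of_restrictScalars A' _ _
  exact Algebra.FormallyUnramified.comp A (A' ⧸ I.map (algebraMap A A')) Tb

/-- Flatness over `S` from flatness over `T` at a point unramified over `T`. -/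
theorem flat_of_unramified_point {T S E : Type u} [CommRing T] [CommRing S] [CommRing E]
    [Algebra T S] [Algebra S E] [Algebra T E] [IsScalarTower T S E] [IsNoetherianRing S]
    [IsNoetherianRing E] (Q : Ideal E) [Q.IsPrime]
    (hmax : (((Q.comap (algebraMap S E)).comap (algebraMap T S)).map (algebraMap T S)).map
      (algebraMap S (Localization.AtPrime (Q.comap (algebraMap S E)))) =
        IsLocalRing.maximalIdeal (Localization.AtPrime (Q.comap (algebraMap S E))))
    (h : Module.Flat T (Localization.AtPrime Q)) : Module.Flat S (Localization.AtPrime Q) := by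
  set P := Q.comap (algebraMap S E) with hP
  let R := Localization.AtPrime P
  let M := Localization.AtPrime Q
  letI : Algebra R M := (Localization.localRingHom P Q (algebraMap S E) hP).toAlgebra
  have : IsScalarTower S R M := IsScalarTower.of_algebraMap_eq fun x => by
    show _ = Localization.localRingHom P Q (algebraMap S E) hP _
    rw [Localization.localRingHom_to_map, ← IsScalarTower.algebraMap_apply]
  have : IsScalarTower T R M := IsScalarTower.of_algebraMap_eq fun x => by
    rw [IsScalarTower.algebraMap_apply T S R, ← IsScalarTower.algebraMap_apply S R M,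
      IsScalarTower.algebraMap_apply T E M, IsScalarTower.algebraMap_apply T S E,
      ← IsScalarTower.algebraMap_apply S E M]
  have : IsLocalHom (algebraMap R M) := Localization.isLocalHom_localRingHom _ _ _ hP
  have : IsNoetherianRing R := IsLocalization.isNoetherianRing P.primeCompl _ inferInstance
  have : IsNoetherianRing M := IsLocalization.isNoetherianRing Q.primeCompl _ inferInstance
  rw [Ideal.map_map, ← IsScalarTower.algebraMap_eq] at hmax
  have h1 := GrothLib.Flatness.lTensor_map_injective (R := T) (S := R) (M := M)
    (P.comap (algebraMap T S))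
  rw [hmax] at h1
  letI : Field (R ⧸ IsLocalRing.maximalIdeal R) := Ideal.Quotient.field _
  have : Module.Flat R M := GrothLib.Flatness.flat_of_localCriterion (S := M)
    (IsLocalRing.maximalIdeal R) GrothLib.Flatness.map_maximalIdeal_le_jacobson h1 inferInstance
  exact Module.Flat.trans S R M

/-- Towers compose. -/
theorem isScalarTower_of_towers (R S T U : Type u) [CommRing R] [CommRing S] [CommRing T]
    [CommRing U] [Algebra R S] [Algebra R T] [Algebra R U] [Algebra S T] [Algebra S U] [Algebra T U]
    [IsScalarTower R S T] [IsScalarTower R T U] [IsScalarTower S T U] : IsScalarTower R S U :=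
  IsScalarTower.of_algebraMap_eq fun x => by
    rw [IsScalarTower.algebraMap_apply R T U, IsScalarTower.algebraMap_apply R S T,
      ← IsScalarTower.algebraMap_apply S T U]

variable [IsAdicComplete I A] {B : Type u} [CommRing B] [Algebra A B] [IsNoetherianRing B]
  {A' : Type u} [CommRing A'] [Algebra A A'] [IsNoetherianRing A']
  [IsAdicComplete (I.map (algebraMap A A')) A']
  {B' : Type u} [CommRing B'] [Algebra A B'] [Algebra B B'] [Algebra A' B']
  [IsScalarTower A B B'] [IsScalarTower A A' B'] [IsNoetherianRing B']
  [IsAdicComplete (I.map (algebraMap A B')) B']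

theorem rigFlat_etale (hftB : Algebra.FiniteType A (B ⧸ I.map (algebraMap A B)))
    (hftA' : Algebra.FiniteType A (A' ⧸ I.map (algebraMap A A')))
    (hftB'B : Algebra.FiniteType B (B' ⧸ I.map (algebraMap A B')))
    [Module.Flat A A'] [Module.Flat B B']
    [Algebra.FormallyUnramified A (A' ⧸ I.map (algebraMap A A'))] (hAB : RigFlat I B) :
    RigFlat (I.map (algebraMap A A')) B' := by
  intro e ψ q hq
  let E := CL ((I.map (algebraMap A A')).map (algebraMap A' B')) (algebraMap A' B' e)
  have hIB' : (I.map (algebraMap A A')).map (algebraMap A' B') = I.map (algebraMap A B') :=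
    (Ideal.map_map _ _).trans (congrArg (Ideal.map · I) (IsScalarTower.algebraMap_eq A A' B').symm)
  have : IsAdicComplete ((I.map (algebraMap A A')).map (algebraMap A' B')) B' := hIB' ▸ inferInstance
  have : IsScalarTower A B' E := isScalarTower_cl _ _
  have : IsScalarTower B B' E := isScalarTower_cl _ _
  have : IsScalarTower A' B' E := isScalarTower_cl _ _
  have : IsScalarTower A A' E := IsScalarTower.of_algebraMap_eq fun x =>
    ((IsScalarTower.algebraMap_apply A B' E x).trans
      (congrArg (algebraMap B' E) (IsScalarTower.algebraMap_apply A A' B' x))).trans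
      (IsScalarTower.algebraMap_apply A' B' E _).symm
  have : IsScalarTower A B E := IsScalarTower.of_algebraMap_eq fun x =>
    ((IsScalarTower.algebraMap_apply A B' E x).trans
      (congrArg (algebraMap B' E) (IsScalarTower.algebraMap_apply A B B' x))).trans
      (IsScalarTower.algebraMap_apply B B' E _).symm
  have : IsNoetherianRing E := isNoetherianRing_cl _ _
  have hIE : (I.map (algebraMap A A')).map (algebraMap A' E) = I.map (algebraMap A E) :=
    (Ideal.map_map _ _).trans (congrArg (Ideal.map · I) (IsScalarTower.algebraMap_eq A A' E).symm)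
  have hcE : IsAdicComplete ((I.map (algebraMap A A')).map (algebraMap A' E)) E := isAdicComplete_cl' _
  have : IsAdicComplete (I.map (algebraMap A E)) E := hIE ▸ hcE
  have hftAE : Algebra.FiniteType A (E ⧸ I.map (algebraMap A E)) := by
    refine finiteType_trans (finiteType_trans hftB hftB'B) ?_
    have h := finiteType_cl_self (algebraMap A' B' e) ((I.map (algebraMap A A')).map (algebraMap A' B'))
    rwa [map_cl_eq (algebraMap A' B' e) (I.map (algebraMap A A')), hIE] at h
  have hq' : RigClosed (I.map (algebraMap A E)) q := hIE ▸ hq
  obtain ⟨a, ha, hfina⟩ := exists_finite_over' hftAE q hq'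
  obtain ⟨q', -, hq'c, hsurj, hq''⟩ := rigClosed_map_cl (algebraMap A E a) q hq' ha
  let E' := CL (I.map (algebraMap A E)) (algebraMap A E a)
  have : IsScalarTower A E E' := isScalarTower_cl _ _
  have : IsScalarTower A' E E' := isScalarTower_cl _ _
  have : IsScalarTower B E E' := isScalarTower_cl _ _
  have : IsScalarTower A B E' := isScalarTower_of_towers A B E E'
  have : IsScalarTower A A' E' := isScalarTower_of_towers A A' E E'
  have : IsNoetherianRing E' := isNoetherianRing_cl _ _
  have hcE' : IsAdicComplete (I.map (algebraMap A E')) E' := isAdicComplete_cl' _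
  have hIE' : (I.map (algebraMap A A')).map (algebraMap A' E') = I.map (algebraMap A E') :=
    (Ideal.map_map _ _).trans (congrArg (Ideal.map · I) (IsScalarTower.algebraMap_eq A A' E').symm)
  have : IsAdicComplete ((I.map (algebraMap A A')).map (algebraMap A' E')) E' := hIE' ▸ hcE'
  have : Module.Flat B' E := flat_cl _ _
  have : Module.Flat E E' := flat_cl _ _
  have : Module.Flat B E := Module.Flat.trans B B' E
  have : Module.Flat B E' := Module.Flat.trans B E E'
  have hua : IsUnit (algebraMap A E' a) := by
    rw [IsScalarTower.algebraMap_apply A E E']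
    exact isUnit_algebraMap_cl _ _
  have hue : IsUnit (algebraMap A' E' e) := by
    rw [IsScalarTower.algebraMap_apply A' E E']
    refine IsUnit.map _ ?_
    rw [IsScalarTower.algebraMap_apply A' B' E]
    exact isUnit_algebraMap_cl _ _
  let T := CL I a
  have : IsNoetherianRing T := isNoetherianRing_cl I a
  have : IsAdicComplete (I.map (algebraMap A T)) T := isAdicComplete_cl I a
  obtain ⟨φ⟩ := exists_lift (I := I) (f := a) (X := E') hua
  letI : Algebra T E' := φ.toRingHom.toAlgebra
  have : IsScalarTower A T E' := IsScalarTower.of_algebraMap_eq fun x => (φ.commutes x).symm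
  have : Module.Finite T (E' ⧸ q'.asIdeal) := hfina T E' q'.asIdeal
    (congrArg PrimeSpectrum.asIdeal hq'c) hsurj (isUnit_algebraMap_cl I a)
  have hTM : Module.Flat T (Localization.AtPrime q'.asIdeal) :=
    rigFlat_flat_localRing hAB a E' q' hq''
  let f := e * algebraMap A A' a
  let T' := CL (I.map (algebraMap A A')) f
  have : IsNoetherianRing T' := isNoetherianRing_cl _ _
  have hcT' : IsAdicComplete (I.map (algebraMap A T')) T' := isAdicComplete_cl' _
  have : IsScalarTower A A' T' := isScalarTower_cl _ _
  obtain ⟨φ'⟩ := exists_lift (A := A') (I := I.map (algebraMap A A')) (f := f) (X := E')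
    (by rw [map_mul, ← IsScalarTower.algebraMap_apply]; exact hue.mul hua)
  letI : Algebra T' E' := φ'.toRingHom.toAlgebra
  have : IsScalarTower A' T' E' := IsScalarTower.of_algebraMap_eq fun x => (φ'.commutes x).symm
  obtain ⟨σ⟩ := exists_lift (I := I) (f := a) (X := T') (by
    rw [IsScalarTower.algebraMap_apply A A' T']
    exact isUnit_of_mul_isUnit_right (by rw [← map_mul]; exact isUnit_algebraMap_cl _ _))
  letI : Algebra T T' := σ.toRingHom.toAlgebra
  have : IsScalarTower A T T' := IsScalarTower.of_algebraMap_eq fun x => (σ.commutes x).symm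
  have : IsScalarTower T T' E' := IsScalarTower.of_algebraMap_eq fun x => DFunLike.congr_fun
    (lift_ext φ ((φ'.restrictScalars A).comp σ)) x
  -- the point of `T'` is unramified over `T`
  have hTT' : (I.map (algebraMap A T)).map (algebraMap T T') = I.map (algebraMap A T') :=
    (Ideal.map_map _ _).trans (congrArg (Ideal.map · I) (IsScalarTower.algebraMap_eq A T T').symm)
  have : IsAdicComplete ((I.map (algebraMap A T)).map (algebraMap T T')) T' := hTT' ▸ hcT'
  have : Algebra.FormallyUnramified A (T' ⧸ (I.map (algebraMap A T)).map (algebraMap T T')) :=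
    hTT' ▸ formallyUnramified_cl f
  have : Algebra.FormallyUnramified T (T' ⧸ (I.map (algebraMap A T)).map (algebraMap T T')) :=
    Algebra.FormallyUnramified.of_restrictScalars A _ _
  have : Algebra.FiniteType A (T' ⧸ (I.map (algebraMap A T)).map (algebraMap T T')) :=
    hTT' ▸ finiteType_cl f hftA'
  have hftT : Algebra.FiniteType T (T' ⧸ (I.map (algebraMap A T)).map (algebraMap T T')) :=
    Algebra.FiniteType.of_restrictScalars_finiteType A _ _
  have hTE' : (I.map (algebraMap A T)).map (algebraMap T E') = I.map (algebraMap A E') :=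
    (Ideal.map_map _ _).trans (congrArg (Ideal.map · I) (IsScalarTower.algebraMap_eq A T E').symm)
  have hp := rigClosed_comap_of_finite (I := I.map (algebraMap A T)) q' (by rwa [hTE'])
  let p' := PrimeSpectrum.comap (algebraMap T' E') q'
  have hpp : PrimeSpectrum.comap (algebraMap T T') p' = PrimeSpectrum.comap (algebraMap T E') q' := by
    rw [IsScalarTower.algebraMap_eq T T' E', PrimeSpectrum.comap_comp_apply]
  have hmax := map_comap_eq_maximalIdeal (A := T) hftT p' (by rwa [hpp])
  have : Module.Flat T' (Localization.AtPrime q'.asIdeal) :=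
    flat_of_unramified_point q'.asIdeal hmax hTM
  exact flat_of_refinement (A := A') (I := I.map (algebraMap A A')) ψ q q' hq'c (dvd_mul_right e _) this

end GrothLib.RigClosed
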