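import Mathlib

/-!
# Flatness of localizations of base changes
-/

open scoped TensorProduct

namespace GrothLib.RigClosed

universe u

/-- Localizations of a base change at points over a flat point are flat. -/
theorem flat_localization_tensor {T C S : Type u} [CommRing T] [CommRing C] [CommRing S]
    [Algebra T C] [Algebra T S] (Q : Ideal (C ⊗[T] S)) [Q.IsPrime] (P : Ideal S) [P.IsPrime]
    (hP : P = Q.comap (Algebra.TensorProduct.includeRight : S →ₐ[T] C ⊗[T] S))
    (h : Module.Flat T (Localization.AtPrime P)) : Module.Flat C (Localization.AtPrime Q) := by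
  let W := C ⊗[T] S
  let M := C ⊗[T] Localization.AtPrime P
  letI : Algebra W M :=
    (Algebra.TensorProduct.map (AlgHom.id T C)
      (IsScalarTower.toAlgHom T S (Localization.AtPrime P))).toRingHom.toAlgebra
  have : IsScalarTower C W M := IsScalarTower.of_algebraMap_eq fun c => by
    show c ⊗ₜ[T] (1 : Localization.AtPrime P) =
      Algebra.TensorProduct.map (AlgHom.id T C) (IsScalarTower.toAlgHom T S _) (c ⊗ₜ 1)
    simp
  let N : Submonoid W := P.primeCompl.map (Algebra.TensorProduct.includeRight (R := T) (A := C))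
  have hloc : IsLocalization N M :=
    IsLocalization.tensorProduct_tensorProduct_right T C P.primeCompl (Localization.AtPrime P) (by
      ext s
      show Algebra.TensorProduct.map (AlgHom.id T C) (IsScalarTower.toAlgHom T S _) (1 ⊗ₜ s) = _
      simp)
  have hN : N ≤ Q.primeCompl := by
    rintro _ ⟨s, hs, rfl⟩ hQ
    exact hs (hP ▸ hQ)
  letI : Algebra M (Localization.AtPrime Q) :=
    (IsLocalization.lift (M := N) (g := algebraMap W (Localization.AtPrime Q)) fun y =>
      IsLocalization.map_units _ (⟨y.1, hN y.2⟩ : Q.primeCompl)).toAlgebra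
  have : IsScalarTower W M (Localization.AtPrime Q) := IsScalarTower.of_algebraMap_eq fun w =>
    (IsLocalization.lift_eq (M := N) (g := algebraMap W (Localization.AtPrime Q)) _ w).symm
  have : IsScalarTower C M (Localization.AtPrime Q) := IsScalarTower.of_algebraMap_eq (R := C) (S := M) (A := Localization.AtPrime Q) fun c => by
    rw [IsScalarTower.algebraMap_apply C W M, ← IsScalarTower.algebraMap_apply W M (Localization.AtPrime Q),
      ← IsScalarTower.algebraMap_apply C W (Localization.AtPrime Q)]
  have : Module.Flat M (Localization.AtPrime Q) :=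
    (Module.flat_iff_of_isLocalization (S := M) N (M := Localization.AtPrime Q)).2
      (IsLocalization.flat _ Q.primeCompl)
  exact Module.Flat.trans C M _

/-- Flatness modulo an ideal can be checked on any presentation of the reduced algebra. -/
theorem flat_quotient_tensor_localization {R E W : Type u} [CommRing R] [CommRing E] [CommRing W]
    [Algebra R E] [Algebra R W] (J : Ideal R) [Algebra (R ⧸ J) W] [IsScalarTower R (R ⧸ J) W]
    (G : E →ₐ[R] W) (hG : Function.Surjective G)
    (hker : RingHom.ker G ≤ J.map (algebraMap R E))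
    (q : Ideal E) [q.IsPrime] (Q : Ideal W) [Q.IsPrime] (hqQ : q = Q.comap G.toRingHom)
    (h : Module.Flat (R ⧸ J) (Localization.AtPrime Q)) :
    Module.Flat (R ⧸ J) ((R ⧸ J) ⊗[R] Localization.AtPrime q) := by
  let L := Localization.localRingHom q Q G.toRingHom hqQ
  have hLc : ∀ r : R, L (algebraMap R (Localization.AtPrime q) r) =
      algebraMap R (Localization.AtPrime Q) r := fun r => by
    rw [IsScalarTower.algebraMap_apply R E (Localization.AtPrime q), Localization.localRingHom_to_map]
    show algebraMap W _ (G (algebraMap R E r)) = _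
    rw [G.commutes, ← IsScalarTower.algebraMap_apply]
  let Lₐ : Localization.AtPrime q →ₐ[R] Localization.AtPrime Q := { L with commutes' := hLc }
  have hsurj : Function.Surjective Lₐ := fun y => by
    obtain ⟨w, ⟨v, hv⟩, rfl⟩ := IsLocalization.exists_mk'_eq Q.primeCompl y
    obtain ⟨x, rfl⟩ := hG w
    obtain ⟨s, rfl⟩ := hG v
    exact ⟨IsLocalization.mk' _ x (⟨s, fun hs => hv (hqQ ▸ hs : s ∈ Q.comap G.toRingHom)⟩ : q.primeCompl),
      Localization.localRingHom_mk' q Q G.toRingHom hqQ _ _⟩
  have hkerL : LinearMap.ker Lₐ.toLinearMap =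
      (J • ⊤ : Submodule R (Localization.AtPrime q)) := by
    refine le_antisymm (fun z hz => ?_) ?_
    · obtain ⟨x, ⟨s, hs⟩, rfl⟩ := IsLocalization.exists_mk'_eq q.primeCompl z
      rw [Ideal.smul_top_eq_map, Submodule.restrictScalars_mem,
        IsScalarTower.algebraMap_eq R E (Localization.AtPrime q), ← Ideal.map_map,
        IsLocalization.mk'_mem_map_algebraMap_iff q.primeCompl]
      have hz' : L (IsLocalization.mk' _ x (⟨s, hs⟩ : q.primeCompl)) = 0 := hz
      rw [Localization.localRingHom_mk', IsLocalization.mk'_eq_zero_iff] at hz'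
      obtain ⟨⟨v, hv⟩, hvx⟩ := hz'
      obtain ⟨t, rfl⟩ := hG v
      refine ⟨t, fun ht => hv (hqQ ▸ ht : t ∈ Q.comap G.toRingHom), hker ?_⟩
      rw [RingHom.mem_ker, map_mul]
      exact hvx
    · refine Submodule.smul_le.2 fun j hj z _ => ?_
      show Lₐ (j • z) = 0
      rw [map_smul, ← algebraMap_smul (R ⧸ J) j (Lₐ z), Ideal.Quotient.algebraMap_eq,
        Ideal.Quotient.eq_zero_iff_mem.2 hj, zero_smul]
  let e : (R ⧸ J) ⊗[R] Localization.AtPrime q ≃ₗ[R] Localization.AtPrime Q :=
    (TensorProduct.quotTensorEquivQuotSMul _ J).trans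
      ((Submodule.quotEquivOfEq _ _ hkerL.symm).trans
        (LinearMap.quotKerEquivOfSurjective Lₐ.toLinearMap hsurj))
  refine @Module.Flat.of_linearEquiv _ _ _ _ _ _ _ _ h
    { e with map_smul' := fun c x => ?_ }
  obtain ⟨r, rfl⟩ := Ideal.Quotient.mk_surjective c
  show e (algebraMap R (R ⧸ J) r • x) = algebraMap R (R ⧸ J) r • e x
  rw [algebraMap_smul, algebraMap_smul, map_smul]

end GrothLib.RigClosed
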