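import Mathlib
import Groth.Agent.Lib.RigClosed.RigFlatEtale
import Groth.Agent.Lib.RigClosed.TensorLocal

/-!
# Base change of rig-flat morphisms
-/

open scoped TensorProduct

namespace GrothLib.RigClosed

universe u

variable {A : Type u} [CommRing A] [IsNoetherianRing A] {I : Ideal A}
  {B : Type u} [CommRing B] [Algebra A B] [IsNoetherianRing B]
  {C : Type u} [CommRing C] [Algebra A C] [IsNoetherianRing C]

/-- The completed tensor product. -/
abbrev CTensor (I : Ideal A) (B C : Type u) [CommRing B] [Algebra A B] [CommRing C] [Algebra A C] :=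
  AdicCompletion ((I.map (algebraMap A C)).map (algebraMap C (C ⊗[A] B))) (C ⊗[A] B)

omit [IsNoetherianRing A] [IsNoetherianRing B] [IsNoetherianRing C] in
theorem map_ctensor : (I.map (algebraMap A C)).map (algebraMap C (CTensor I B C)) =
    I.map (algebraMap A (CTensor I B C)) :=
  (Ideal.map_map _ _).trans (congrArg (Ideal.map · I) (IsScalarTower.algebraMap_eq A C _).symm)

omit [IsNoetherianRing B] in
theorem isAdicComplete_ctensor :
    IsAdicComplete ((I.map (algebraMap A C)).map (algebraMap C (CTensor I B C))) (CTensor I B C) := by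
  have h := AdicCompletion.isAdicComplete_self
    ((I.map (algebraMap A C)).map (algebraMap C (C ⊗[A] B))) (Ideal.FG.map (IsNoetherian.noetherian _) _)
  have e : ((I.map (algebraMap A C)).map (algebraMap C (C ⊗[A] B))).map
      (algebraMap (C ⊗[A] B) (CTensor I B C)) =
      (I.map (algebraMap A C)).map (algebraMap C (CTensor I B C)) :=
    (Ideal.map_map _ _).trans
      (congrArg (Ideal.map · (I.map (algebraMap A C))) (IsScalarTower.algebraMap_eq C (C ⊗[A] B) _).symm)
  rwa [e] at h

omit [IsNoetherianRing A] [IsNoetherianRing B] in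
theorem finiteType_ctensor (hB : Algebra.FiniteType A (B ⧸ I.map (algebraMap A B)))
    (hC : Algebra.FiniteType A (C ⧸ I.map (algebraMap A C))) :
    Algebra.FiniteType A (CTensor I B C ⧸ I.map (algebraMap A (CTensor I B C))) := by
  set J := I.map (algebraMap A (CTensor I B C)) with hJ
  let ι : C ⊗[A] B →ₐ[A] CTensor I B C ⧸ J :=
    (Ideal.Quotient.mkₐ A J).comp (IsScalarTower.toAlgHom A (C ⊗[A] B) _)
  have hI : ∀ x ∈ I.map (algebraMap A (C ⊗[A] B)), ι x = 0 := fun x hx =>
    Ideal.Quotient.eq_zero_iff_mem.2 (by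
      have := Ideal.mem_map_of_mem (algebraMap (C ⊗[A] B) (CTensor I B C)) hx
      exact ((Ideal.map_map _ _).trans
        (congrArg (Ideal.map · I) (IsScalarTower.algebraMap_eq A (C ⊗[A] B) _).symm)).le this)
  have hmapC : ∀ x ∈ I.map (algebraMap A C), ι (x ⊗ₜ 1) = 0 := fun x hx => hI _ (by
    have := Ideal.mem_map_of_mem (Algebra.TensorProduct.includeLeft : C →ₐ[A] C ⊗[A] B).toRingHom hx
    rwa [Ideal.map_map, show ((Algebra.TensorProduct.includeLeft : C →ₐ[A] C ⊗[A] B).toRingHom.comp
      (algebraMap A C)) = algebraMap A (C ⊗[A] B) from RingHom.ext fun z => (Algebra.TensorProduct.includeLeft : C →ₐ[A] C ⊗[A] B).commutes z] at this)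
  have hmapB : ∀ x ∈ I.map (algebraMap A B), ι (1 ⊗ₜ x) = 0 := fun x hx => hI _ (by
    have := Ideal.mem_map_of_mem (Algebra.TensorProduct.includeRight : B →ₐ[A] C ⊗[A] B).toRingHom hx
    rwa [Ideal.map_map, show ((Algebra.TensorProduct.includeRight : B →ₐ[A] C ⊗[A] B).toRingHom.comp
      (algebraMap A B)) = algebraMap A (C ⊗[A] B) from RingHom.ext fun z => (Algebra.TensorProduct.includeRight : B →ₐ[A] C ⊗[A] B).commutes z] at this)
  let φ : (C ⧸ I.map (algebraMap A C)) ⊗[A] (B ⧸ I.map (algebraMap A B)) →ₐ[A] CTensor I B C ⧸ J :=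
    Algebra.TensorProduct.lift
      (Ideal.Quotient.liftₐ _ (ι.comp Algebra.TensorProduct.includeLeft) hmapC)
      (Ideal.Quotient.liftₐ _ (ι.comp Algebra.TensorProduct.includeRight) hmapB)
      fun _ _ => Commute.all _ _
  have : Algebra.FiniteType A ((C ⧸ I.map (algebraMap A C)) ⊗[A] (B ⧸ I.map (algebraMap A B))) :=
    Algebra.FiniteType.trans hC inferInstance
  refine Algebra.FiniteType.of_surjective φ fun y => ?_
  obtain ⟨x, rfl⟩ := Ideal.Quotient.mk_surjective y
  obtain ⟨s, hs⟩ := GrothLib.RigidBase.exists_sub_mem_pow_map (R := C) (S := C ⊗[A] B)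
    (IsNoetherian.noetherian (I.map (algebraMap A C))) 1 x
  rw [pow_one, map_ctensor] at hs
  rw [show Ideal.Quotient.mk J x = ι s from Ideal.Quotient.eq.2 hs]
  clear hs
  induction s using TensorProduct.induction_on with
  | zero => exact ⟨0, by rw [map_zero, map_zero]⟩
  | add a b ha hb =>
    obtain ⟨a', ha⟩ := ha
    obtain ⟨b', hb⟩ := hb
    exact ⟨a' + b', by rw [map_add, map_add, ha, hb]⟩
  | tmul c b =>
    refine ⟨Ideal.Quotient.mk _ c ⊗ₜ Ideal.Quotient.mk _ b, ?_⟩
    show ι (c ⊗ₜ 1) * ι (1 ⊗ₜ b) = ι (c ⊗ₜ b)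
    rw [← map_mul, Algebra.TensorProduct.tmul_mul_tmul, mul_one, one_mul]

theorem isNoetherianRing_ctensor (hB : Algebra.FiniteType A (B ⧸ I.map (algebraMap A B)))
    (hC : Algebra.FiniteType A (C ⧸ I.map (algebraMap A C))) :
    IsNoetherianRing (CTensor I B C) := by
  have := isAdicComplete_ctensor (I := I) (B := B) (C := C)
  have hft := finiteType_ctensor hB hC
  rw [← map_ctensor] at hft
  have : IsNoetherianRing (CTensor I B C ⧸ (I.map (algebraMap A C)).map (algebraMap C (CTensor I B C))) :=
    Algebra.FiniteType.isNoetherianRing A _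
  exact GrothLib.AdicLim.isNoetherianRing_of_complete
    (I := (I.map (algebraMap A C)).map (algebraMap C (CTensor I B C)))
    (Ideal.FG.map (IsNoetherian.noetherian _) _)

/-- Two maps out of a completed tensor product agree if they agree on both factors. -/
theorem ctensor_ext {X : Type u} [CommRing X] [Algebra A X] [Algebra C X] [IsScalarTower A C X]
    [IsAdicComplete ((I.map (algebraMap A C)).map (algebraMap C X)) X]
    (F F' : CTensor I B C →ₐ[C] X)
    (h : ∀ b, F (algebraMap (C ⊗[A] B) _ (1 ⊗ₜ b)) = F' (algebraMap (C ⊗[A] B) _ (1 ⊗ₜ b))) :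
    F = F' := by
  obtain ⟨H, -, hH⟩ := GrothLib.RigidBase.existsUnique_extension
    (IsNoetherian.noetherian (I.map (algebraMap A C)))
    (F.comp (IsScalarTower.toAlgHom C (C ⊗[A] B) (CTensor I B C)))
  have h' : F'.comp (IsScalarTower.toAlgHom C (C ⊗[A] B) (CTensor I B C)) =
      F.comp (IsScalarTower.toAlgHom C (C ⊗[A] B) (CTensor I B C)) := by
    refine Algebra.TensorProduct.ext (Subsingleton.elim _ _) (AlgHom.ext fun b => (h b).symm)
  rw [hH F fun _ => rfl, hH F' fun s => DFunLike.congr_fun h' s]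

/-- `E / J` is finite over `T` when `E / √J` is. -/
theorem finite_quotient_pow {T R : Type u} [CommRing T] [CommRing R] [Algebra T R] [IsNoetherianRing R]
    (p : Ideal R) [Module.Finite T (R ⧸ p)] (k : ℕ) : Module.Finite T (R ⧸ p ^ k) := by
  obtain rfl | hk := Nat.eq_zero_or_pos k
  · have : Subsingleton (R ⧸ p ^ 0) := by
      rw [pow_zero, Ideal.one_eq_top]; exact Ideal.Quotient.subsingleton_iff.2 rfl
    infer_instance
  refine Module.finite_of_surjective_of_ker_le_nilradical
    (Ideal.Quotient.factorₐ T (Ideal.pow_le_self hk.ne' : p ^ k ≤ p))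
    (Ideal.Quotient.factor_surjective (Ideal.pow_le_self hk.ne')) ?_ (IsNoetherian.noetherian _)
  intro x hx
  obtain ⟨x, rfl⟩ := Ideal.Quotient.mk_surjective x
  exact ⟨k, Ideal.mem_bot.2 (by
    rw [← map_pow, Ideal.Quotient.eq_zero_iff_mem]
    exact Ideal.pow_mem_pow (Ideal.Quotient.eq_zero_iff_mem.1 hx) k)⟩

/-- The key computation: over a point with finite quotient the completed tensor product is a plain
tensor product. -/
theorem flat_ctensor_point {T S R E : Type u} [CommRing T] [CommRing S] [CommRing R] [CommRing E]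
    [Algebra T S] [Algebra T R] [Algebra T E] [Algebra S E] [Algebra R E]
    [IsScalarTower T S E] [IsScalarTower T R E] [IsNoetherianRing R] [IsNoetherianRing E]
    (q : Ideal E) [q.IsPrime]
    (hS : Module.Flat T (Localization.AtPrime (q.comap (algebraMap S E))))
    (hG : ∀ n : ℕ, 0 < n → ∃ G : E →ₐ[R] ((R ⧸ (q.comap (algebraMap R E)) ^ n) ⊗[T] S),
      Function.Surjective G ∧
        RingHom.ker G ≤ ((q.comap (algebraMap R E)) ^ n).map (algebraMap R E) ∧
        ∀ s, G (algebraMap S E s) = 1 ⊗ₜ s) :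
    Module.Flat R (Localization.AtPrime q) := by
  set p := q.comap (algebraMap R E) with hp
  have : IsNoetherianRing (Localization.AtPrime q) :=
    IsLocalization.isNoetherianRing q.primeCompl _ inferInstance
  refine GrothLib.Flatness.flat_of_forall_pow (S := Localization.AtPrime q) p ?_ ?_
  · rw [IsLocalRing.jacobson_eq_maximalIdeal ⊥ bot_ne_top,
      IsScalarTower.algebraMap_eq R E (Localization.AtPrime q), ← Ideal.map_map,
      ← Localization.AtPrime.map_eq_maximalIdeal]
    exact Ideal.map_mono Ideal.map_comap_le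
  intro n X Y _ _ _ _ g hX hY hg
  obtain rfl | hn := Nat.eq_zero_or_pos n
  · have hX0 : Subsingleton X := subsingleton_of_forall_eq 0 fun x => by
      simpa using @hX x ⟨1, by simp⟩
    exact fun x y _ => Subsingleton.elim x y
  obtain ⟨G, hGs, hker, hGS⟩ := hG n hn
  refine GrothLib.Flatness.lTensor_injective_of_flat_quotient (p ^ n) ?_ hX hY g hg
  let Q : Ideal ((R ⧸ p ^ n) ⊗[T] S) := q.map G.toRingHom
  have hkerq : RingHom.ker G.toRingHom ≤ q := hker.trans
    ((Ideal.map_mono (Ideal.pow_le_self hn.ne')).trans Ideal.map_comap_le)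
  have : Q.IsPrime := Ideal.map_isPrime_of_surjective (f := G.toRingHom) hGs hkerq
  have hqQ : q = Q.comap G.toRingHom := by
    rw [Ideal.comap_map_of_surjective' G.toRingHom hGs, sup_eq_left.2 hkerq]
  refine flat_quotient_tensor_localization (p ^ n) G hGs hker q Q hqQ
    (flat_localization_tensor Q (q.comap (algebraMap S E)) (Ideal.ext fun s => ?_) hS)
  rw [Ideal.mem_comap, Ideal.mem_comap]
  conv_lhs => rw [hqQ]
  rw [Ideal.mem_comap, AlgHom.toRingHom_eq_coe, RingHom.coe_coe, hGS]
  rfl

end GrothLib.RigClosed
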