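import Mathlib
import Groth.Agent.Lib.RigClosed.RigFlatBaseChange

/-!
# Universal properties of completed tensor products and localizations
-/

open scoped TensorProduct

namespace GrothLib.RigClosed

universe u

variable {A : Type u} [CommRing A] [IsNoetherianRing A] {I : Ideal A}
  {X : Type u} [CommRing X] [Algebra A X] [IsAdicComplete (I.map (algebraMap A X)) X]

omit [IsNoetherianRing A] in
theorem isAdicComplete_map_algHom {Y : Type u} [CommRing Y] [Algebra A Y] (F : Y →ₐ[A] X) :
    letI := F.toRingHom.toAlgebra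
    IsAdicComplete ((I.map (algebraMap A Y)).map (algebraMap Y X)) X := by
  letI := F.toRingHom.toAlgebra
  have h : (I.map (algebraMap A Y)).map (algebraMap Y X) = I.map (algebraMap A X) :=
    (Ideal.map_map _ _).trans (congrArg (Ideal.map · I) (AlgHom.comp_algebraMap F))
  rw [h]
  infer_instance

section

variable {Y : Type u} [CommRing Y] [Algebra A Y] [IsNoetherianRing Y] (y : Y) (J : Ideal Y)
  (hJ : J = I.map (algebraMap A Y))

include hJ in
theorem exists_lift_cl_over (F : Y →ₐ[A] X) (hy : IsUnit (F y)) :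
    ∃ G : CL J y →ₐ[A] X, ∀ z, G (algebraMap Y (CL J y) z) = F z := by
  subst hJ
  letI := F.toRingHom.toAlgebra
  have := isAdicComplete_map_algHom (I := I) F
  obtain ⟨G⟩ := exists_lift (A := Y) (I := I.map (algebraMap A Y)) (f := y) (X := X) hy
  refine ⟨{ G.toRingHom with commutes' := fun a => ?_ }, fun z => G.commutes z⟩
  have := isScalarTower_cl (A := A) y (I.map (algebraMap A Y))
  show G (algebraMap A (CL (I.map (algebraMap A Y)) y) a) = algebraMap A X a
  rw [IsScalarTower.algebraMap_apply A Y (CL (I.map (algebraMap A Y)) y), G.commutes]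
  exact F.commutes a

include hJ in
theorem lift_cl_over_ext (G G' : CL J y →ₐ[A] X)
    (h : ∀ z, G (algebraMap Y (CL J y) z) = G' (algebraMap Y (CL J y) z)) : G = G' := by
  subst hJ
  have := isScalarTower_cl (A := A) y (I.map (algebraMap A Y))
  let F : Y →ₐ[A] X := G.comp (IsScalarTower.toAlgHom A Y (CL (I.map (algebraMap A Y)) y))
  letI := F.toRingHom.toAlgebra
  have := isAdicComplete_map_algHom (I := I) F
  exact AlgHom.ext fun z => DFunLike.congr_fun (lift_ext
    ({ G.toRingHom with commutes' := fun _ => rfl } : CL (I.map (algebraMap A Y)) y →ₐ[Y] X)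
    { G'.toRingHom with commutes' := fun x => (h x).symm }) z

end

section

variable {B : Type u} [CommRing B] [Algebra A B] [IsNoetherianRing B] {C : Type u} [CommRing C] [Algebra A C]
  [IsNoetherianRing C]

omit [IsNoetherianRing A] in
theorem exists_lift_ctensor (u : C →ₐ[A] X) (v : B →ₐ[A] X) :
    ∃ F : CTensor I B C →ₐ[A] X, (∀ x, F (algebraMap C _ x) = u x) ∧
      ∀ b, F (algebraMap (C ⊗[A] B) _ (1 ⊗ₜ b)) = v b := by
  letI := u.toRingHom.toAlgebra
  have := isAdicComplete_map_algHom (I := I) u
  have : IsScalarTower A C X := IsScalarTower.of_algebraMap_eq fun x => (u.commutes x).symm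
  let g : C ⊗[A] B →ₐ[C] X :=
    Algebra.TensorProduct.lift (Algebra.ofId C X) v fun _ _ => Commute.all _ _
  obtain ⟨F, hF, -⟩ := GrothLib.RigidBase.existsUnique_extension
    (IsNoetherian.noetherian (I.map (algebraMap A C))) g
  refine ⟨F.restrictScalars A, fun x => F.commutes x, fun b => (hF (1 ⊗ₜ b)).trans ?_⟩
  show g (1 ⊗ₜ b) = v b
  rw [Algebra.TensorProduct.lift_tmul, map_one, one_mul]

theorem lift_ctensor_ext (F F' : CTensor I B C →ₐ[A] X)
    (hC : ∀ x, F (algebraMap C _ x) = F' (algebraMap C _ x))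
    (hB : ∀ b, F (algebraMap (C ⊗[A] B) _ (1 ⊗ₜ b)) = F' (algebraMap (C ⊗[A] B) _ (1 ⊗ₜ b))) :
    F = F' := by
  let u : C →ₐ[A] X := F.comp (IsScalarTower.toAlgHom A C (CTensor I B C))
  letI := u.toRingHom.toAlgebra
  have := isAdicComplete_map_algHom (I := I) u
  have : IsScalarTower A C X := IsScalarTower.of_algebraMap_eq fun x => (u.commutes x).symm
  exact AlgHom.ext fun z => DFunLike.congr_fun (ctensor_ext
    ({ F.toRingHom with commutes' := fun _ => rfl } : CTensor I B C →ₐ[C] X)
    { F'.toRingHom with commutes' := fun x => (hC x).symm } hB) z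

end

end GrothLib.RigClosed
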