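import Mathlib
import Groth.Agent.Lib.AdicLim.Finite

/-!
# Completed coproducts modulo ideals with finite quotient
-/

open scoped TensorProduct

namespace GrothLib.RigClosed

universe u

variable {A : Type u} [CommRing A] {I : Ideal A}

/-- A completed coproduct becomes a plain tensor product modulo an ideal with finite quotient. -/
theorem exists_map_to_tensor {T S R E : Type u} [CommRing T] [CommRing S] [CommRing R] [CommRing E]
    [Algebra A T] [Algebra A S] [Algebra A R] [Algebra A E] [Algebra T S] [Algebra T R] [Algebra T E]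
    [Algebra S E] [Algebra R E] [IsScalarTower A T S] [IsScalarTower A T R] [IsScalarTower A R E]
    [IsScalarTower A S E] [IsScalarTower T S E] [IsScalarTower T R E]
    [IsNoetherianRing S] [IsNoetherianRing E] [IsAdicComplete (I.map (algebraMap A S)) S]
    [IsAdicComplete (I.map (algebraMap A E)) E] (J : Ideal R) [Module.Finite T (R ⧸ J)]
    (hlift : ∀ (X : Type u) [CommRing X] [Algebra A X] [IsAdicComplete (I.map (algebraMap A X)) X]
      (u : R →ₐ[A] X) (v : S →ₐ[A] X), ∃ G : E →ₐ[A] X,
        G.comp (IsScalarTower.toAlgHom A R E) = u ∧ G.comp (IsScalarTower.toAlgHom A S E) = v)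
    (hext : ∀ (X : Type u) [CommRing X] [Algebra A X] [IsAdicComplete (I.map (algebraMap A X)) X]
      (G G' : E →ₐ[A] X),
        G.comp (IsScalarTower.toAlgHom A R E) = G'.comp (IsScalarTower.toAlgHom A R E) →
        G.comp (IsScalarTower.toAlgHom A S E) = G'.comp (IsScalarTower.toAlgHom A S E) → G = G') :
    ∃ G : E →ₐ[R] ((R ⧸ J) ⊗[T] S), Function.Surjective G ∧
      RingHom.ker G ≤ J.map (algebraMap R E) ∧ ∀ s, G (algebraMap S E s) = 1 ⊗ₜ s := by
  let W := (R ⧸ J) ⊗[T] S
  -- `W` is finite over `S`, hence complete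
  let ιS : S →ₐ[T] W := Algebra.TensorProduct.includeRight
  letI : Algebra S W := ιS.toRingHom.toAlgebra
  have : IsScalarTower T S W := IsScalarTower.of_algebraMap_eq fun x => (ιS.commutes x).symm
  have : IsScalarTower A S W := IsScalarTower.of_algebraMap_eq fun x => by
    rw [IsScalarTower.algebraMap_apply A T S, ← IsScalarTower.algebraMap_apply T S W,
      ← IsScalarTower.algebraMap_apply]
  have : Module.Finite S W := by
    refine Module.Finite.of_surjective
      ({ toFun := Algebra.TensorProduct.comm T S (R ⧸ J), map_add' := map_add _,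
         map_smul' := fun c x => ?_ } : (S ⊗[T] (R ⧸ J)) →ₗ[S] W)
      (Algebra.TensorProduct.comm T S (R ⧸ J)).surjective
    rw [RingHom.id_apply]
    induction x using TensorProduct.induction_on with
    | zero => simp
    | add x y hx hy => simp only [smul_add, map_add, hx, hy]
    | tmul s r =>
      rw [TensorProduct.smul_tmul', Algebra.TensorProduct.comm_tmul, Algebra.TensorProduct.comm_tmul,
        Algebra.smul_def c (r ⊗ₜ[T] s : W)]
      show _ = ((1 : R ⧸ J) ⊗ₜ[T] c) * (r ⊗ₜ[T] s)
      rw [Algebra.TensorProduct.tmul_mul_tmul, one_mul, smul_eq_mul]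
  have : IsAdicComplete (I.map (algebraMap A S)) W := GrothLib.AdicLim.isAdicComplete_of_finite _ W
  have : IsAdicComplete (I.map (algebraMap A W)) W := by
    have h : IsAdicComplete ((I.map (algebraMap A S)).map (algebraMap S W)) W := (IsAdicComplete.map_algebraMap_iff (I.map (algebraMap A S)) W).2 this
    rwa [Ideal.map_map, ← IsScalarTower.algebraMap_eq] at h
  let u : R →ₐ[A] W := (IsScalarTower.toAlgHom A (R ⧸ J) W).comp (IsScalarTower.toAlgHom A R (R ⧸ J))
  let v : S →ₐ[A] W := IsScalarTower.toAlgHom A S W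
  obtain ⟨G, hGu, hGv⟩ := hlift W u v
  have hGR : ∀ r, G (algebraMap R E r) = algebraMap R W r := fun r =>
    (DFunLike.congr_fun hGu r).trans (IsScalarTower.algebraMap_apply R (R ⧸ J) W r).symm
  let G' : E →ₐ[R] W := { G.toRingHom with commutes' := hGR }
  -- the inverse
  let Eb := E ⧸ J.map (algebraMap R E)
  have : IsAdicComplete (I.map (algebraMap A Eb)) Eb := by
    have h : IsAdicComplete ((I.map (algebraMap A E)).map (algebraMap E Eb)) Eb :=
      (IsAdicComplete.map_algebraMap_iff (I.map (algebraMap A E)) Eb).2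
      (GrothLib.AdicLim.isAdicComplete_of_finite _ Eb)
    rwa [Ideal.map_map, ← IsScalarTower.algebraMap_eq] at h
  have : IsScalarTower A T E := IsScalarTower.of_algebraMap_eq fun x => by
    rw [IsScalarTower.algebraMap_apply A S E, IsScalarTower.algebraMap_apply A T S,
      ← IsScalarTower.algebraMap_apply T S E]
  let θ : W →ₐ[T] Eb := Algebra.TensorProduct.lift
    (Ideal.quotientMapₐ (J.map (algebraMap R E)) (IsScalarTower.toAlgHom T R E) Ideal.le_comap_map)
    ((Ideal.Quotient.mkₐ T _).comp (IsScalarTower.toAlgHom T S E)) fun _ _ => Commute.all _ _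
  have hθG : (θ.restrictScalars A).comp G = Ideal.Quotient.mkₐ A _ := by
    refine hext Eb _ _ (AlgHom.ext fun r => ?_) (AlgHom.ext fun s => ?_)
    · show θ (G (algebraMap R E r)) = Ideal.Quotient.mk _ (algebraMap R E r)
      rw [hGR, IsScalarTower.algebraMap_apply R (R ⧸ J) W, Algebra.TensorProduct.algebraMap_apply,
        Algebra.TensorProduct.lift_tmul, map_one, mul_one]
      rfl
    · show θ (G (algebraMap S E s)) = Ideal.Quotient.mk _ (algebraMap S E s)
      rw [show G (algebraMap S E s) = algebraMap S W s from DFunLike.congr_fun hGv s]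
      show θ (1 ⊗ₜ s) = _
      rw [Algebra.TensorProduct.lift_tmul, map_one, one_mul]
      rfl
  refine ⟨G', fun w => ?_, fun x hx => ?_, fun s => DFunLike.congr_fun hGv s⟩
  · induction w using TensorProduct.induction_on with
    | zero => exact ⟨0, map_zero G'⟩
    | add x y hx hy =>
      obtain ⟨x', hx⟩ := hx
      obtain ⟨y', hy⟩ := hy
      exact ⟨x' + y', by rw [map_add, hx, hy]⟩
    | tmul r s =>
      obtain ⟨r, rfl⟩ := Ideal.Quotient.mk_surjective r
      refine ⟨algebraMap R E r * algebraMap S E s, ?_⟩
      show G (algebraMap R E r * algebraMap S E s) = _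
      rw [map_mul, hGR, show G (algebraMap S E s) = algebraMap S W s from DFunLike.congr_fun hGv s,
        IsScalarTower.algebraMap_apply R (R ⧸ J) W, Algebra.TensorProduct.algebraMap_apply]
      show (Ideal.Quotient.mk J r ⊗ₜ (1 : S)) * ((1 : R ⧸ J) ⊗ₜ s) = _
      rw [Algebra.TensorProduct.tmul_mul_tmul, one_mul, mul_one]
  · have h := DFunLike.congr_fun hθG x
    rw [AlgHom.comp_apply, show G x = 0 from hx, map_zero] at h
    exact Ideal.Quotient.eq_zero_iff_mem.1 h.symm

end GrothLib.RigClosed
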