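import Mathlib
import Groth.Agent.Lib.RigidBase.Chart
import Groth.Agent.Lib.AdicExtra.Completion
import Groth.Agent.Lib.RigClosed.Adic

/-!
# Completions modulo ideals with finite quotient
-/

namespace GrothLib.RigClosed

universe u

variable {A : Type u} [CommRing A] [IsNoetherianRing A] (I : Ideal A) [IsAdicComplete I A]
  (P : Type u) [CommRing P] [Algebra A P] [IsNoetherianRing P]

/-- Completion does not change quotients which are finite over the complete base. -/
theorem bijective_quotientMap_completion (𝔞 : Ideal P) [Module.Finite A (P ⧸ 𝔞)] :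
    Function.Bijective (Ideal.quotientMap
      (𝔞.map (algebraMap P (AdicCompletion (I.map (algebraMap A P)) P)))
      (algebraMap P (AdicCompletion (I.map (algebraMap A P)) P)) Ideal.le_comap_map) := by
  set T := AdicCompletion (I.map (algebraMap A P)) P
  have : IsScalarTower A P T := inferInstance
  have hcP : IsAdicComplete I (P ⧸ 𝔞) := GrothLib.AdicLim.isAdicComplete_of_finite I (P ⧸ 𝔞)
  constructor
  · have : IsAdicComplete (I.map (algebraMap A (P ⧸ 𝔞))) (P ⧸ 𝔞) :=
      (IsAdicComplete.map_algebraMap_iff I (P ⧸ 𝔞)).2 hcP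
    obtain ⟨G, hG, -⟩ := GrothLib.RigidBase.existsUnique_extension (IsNoetherian.noetherian I)
      (Ideal.Quotient.mkₐ A 𝔞)
    rw [injective_iff_map_eq_zero]
    intro a ha
    obtain ⟨a, rfl⟩ := Ideal.Quotient.mk_surjective a
    rw [Ideal.quotientMap_mk, Ideal.Quotient.eq_zero_iff_mem] at ha
    have hle : 𝔞.map (algebraMap P T) ≤ RingHom.ker G.toRingHom := by
      rw [Ideal.map_le_iff_le_comap]
      intro z hz
      rw [Ideal.mem_comap, RingHom.mem_ker]
      exact (hG z).trans (Ideal.Quotient.eq_zero_iff_mem.2 hz)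
    exact ((hG a).symm.trans (hle ha) : _)
  · have hT : IsAdicComplete (I.map (algebraMap A T)) T := by
      have h := AdicCompletion.isAdicComplete_self (I.map (algebraMap A P))
        (IsNoetherian.noetherian _)
      rwa [Ideal.map_map, ← IsScalarTower.algebraMap_eq] at h
    let C := T ⧸ 𝔞.map (algebraMap P T)
    have h1 : IsAdicComplete (I.map (algebraMap A T)) C :=
      GrothLib.AdicLim.isAdicComplete_of_finite _ C
    have h2 : IsAdicComplete ((I.map (algebraMap A T)).map (algebraMap T C)) C :=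
      (IsAdicComplete.map_algebraMap_iff _ C).2 h1
    rw [Ideal.map_map, ← IsScalarTower.algebraMap_eq] at h2
    have h3 : IsAdicComplete I C := (IsAdicComplete.map_algebraMap_iff I C).1 h2
    let φ : (P ⧸ 𝔞) →ₗ[A] C :=
      (Ideal.quotientMapₐ (𝔞.map (algebraMap P T)) (IsScalarTower.toAlgHom A P T)
        (I := 𝔞) Ideal.le_comap_map).toLinearMap
    refine (surjective_of_mkQ_comp_surjective (I := I) (f := φ) fun y => ?_ :
      Function.Surjective φ)
    obtain ⟨c, rfl⟩ := Submodule.mkQ_surjective _ y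
    obtain ⟨x, rfl⟩ := Ideal.Quotient.mk_surjective c
    obtain ⟨s, hs⟩ := GrothLib.RigidBase.exists_sub_mem_pow_map (R := A) (IsNoetherian.noetherian I) 1 x
    rw [pow_one] at hs
    refine ⟨Ideal.Quotient.mk 𝔞 s, (Submodule.Quotient.eq _).2 ?_⟩
    rw [Ideal.smul_top_eq_map, Submodule.restrictScalars_mem,
      show algebraMap A C = (Ideal.Quotient.mk _).comp (algebraMap A T) from rfl, ← Ideal.map_map,
      show φ (Ideal.Quotient.mk 𝔞 s) - Ideal.Quotient.mk _ x =
        - Ideal.Quotient.mk (𝔞.map (algebraMap P T)) (x - algebraMap P T s) by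
        rw [map_sub, neg_sub]; rfl]
    exact neg_mem (Ideal.mem_map_of_mem _ hs)

/-- The completion is an isomorphism on completed local rings at primes with finite quotient. -/
theorem localRingHom_bijective_mod_pow (q : PrimeSpectrum (AdicCompletion (I.map (algebraMap A P)) P))
    [Module.Finite A (AdicCompletion (I.map (algebraMap A P)) P ⧸ q.asIdeal)] (m : ℕ) :
    (∀ x : Localization.AtPrime (PrimeSpectrum.comap (algebraMap P _) q).asIdeal,
      Localization.localRingHom (PrimeSpectrum.comap (algebraMap P _) q).asIdeal q.asIdeal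
        (algebraMap P (AdicCompletion (I.map (algebraMap A P)) P)) rfl x ∈
          IsLocalRing.maximalIdeal (Localization.AtPrime q.asIdeal) ^ m →
        x ∈ IsLocalRing.maximalIdeal
          (Localization.AtPrime (PrimeSpectrum.comap (algebraMap P _) q).asIdeal) ^ m) ∧
    ∀ y : Localization.AtPrime q.asIdeal, ∃ x,
      y - Localization.localRingHom (PrimeSpectrum.comap (algebraMap P _) q).asIdeal q.asIdeal
        (algebraMap P (AdicCompletion (I.map (algebraMap A P)) P)) rfl x ∈
          IsLocalRing.maximalIdeal (Localization.AtPrime q.asIdeal) ^ m := by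
  set T := AdicCompletion (I.map (algebraMap A P)) P
  set q' := (PrimeSpectrum.comap (algebraMap P T) q).asIdeal with hq'
  have : IsScalarTower A P T := inferInstance
  have hfin : Module.Finite A (P ⧸ q') :=
    Module.Finite.of_injective (Ideal.quotientMapₐ q.asIdeal (IsScalarTower.toAlgHom A P T)
      (I := q') (le_refl _)).toLinearMap
      (Ideal.quotientMap_injective' (I := q.asIdeal) (J := q') (f := algebraMap P T) (H := le_refl _) (le_refl _))
  have hfinpow : ∀ k, Module.Finite A (P ⧸ q' ^ k) := by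
    intro k
    obtain rfl | hk := Nat.eq_zero_or_pos k
    · have : Subsingleton (P ⧸ q' ^ 0) := by
        rw [pow_zero, Ideal.one_eq_top]; exact Ideal.Quotient.subsingleton_iff.2 rfl
      infer_instance
    refine Module.finite_of_surjective_of_ker_le_nilradical
      (Ideal.Quotient.factorₐ A (Ideal.pow_le_self hk.ne' : q' ^ k ≤ q'))
      (Ideal.Quotient.factor_surjective (Ideal.pow_le_self hk.ne')) ?_ (IsNoetherian.noetherian _)
    intro x hx
    obtain ⟨x, rfl⟩ := Ideal.Quotient.mk_surjective x
    have hx' : x ∈ q' := Ideal.Quotient.eq_zero_iff_mem.1 hx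
    exact ⟨k, Ideal.mem_bot.2 (by rw [← map_pow, Ideal.Quotient.eq_zero_iff_mem]; exact Ideal.pow_mem_pow hx' k)⟩
  have hq : q'.map (algebraMap P T) = q.asIdeal := by
    refine le_antisymm Ideal.map_comap_le fun x hx => ?_
    obtain ⟨a, ha⟩ := (bijective_quotientMap_completion I P q').2 (Ideal.Quotient.mk _ x)
    obtain ⟨a, rfl⟩ := Ideal.Quotient.mk_surjective a
    rw [Ideal.quotientMap_mk] at ha
    have h1 := Ideal.Quotient.eq.1 ha
    have ha' : a ∈ q' := by
      show algebraMap P T a ∈ q.asIdeal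
      simpa using add_mem (Ideal.map_comap_le h1 : algebraMap P T a - x ∈ q.asIdeal) hx
    have h2 := sub_mem (Ideal.mem_map_of_mem (algebraMap P T) ha') h1
    exact (sub_sub_self (algebraMap P T a) x) ▸ h2
  have := hfinpow m
  obtain ⟨hinj, hsurj⟩ := bijective_quotientMap_completion I P (q' ^ m)
  have hmem : ∀ {t : T}, t ∈ q.asIdeal ^ m → t ∈ (q' ^ m).map (algebraMap P T) := fun ht => by
    rwa [Ideal.map_pow, hq]
  -- lift elements to `P` modulo `q ^ m`
  have hlift : ∀ t : T, ∃ b : P, algebraMap P T b - t ∈ (q' ^ m).map (algebraMap P T) := fun t => by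
    obtain ⟨b, hb⟩ := hsurj (Ideal.Quotient.mk _ t)
    obtain ⟨b, rfl⟩ := Ideal.Quotient.mk_surjective b
    exact ⟨b, Ideal.Quotient.eq.1 hb⟩
  have hback : ∀ (b : P) (t : T), algebraMap P T b - t ∈ (q' ^ m).map (algebraMap P T) → 0 < m →
      t ∉ q.asIdeal → b ∉ q' := fun b t h hm ht hb => ht (by
    have h1 : algebraMap P T b - t ∈ q.asIdeal := by
      rw [Ideal.map_pow, hq] at h
      exact Ideal.pow_le_self hm.ne' h
    simpa using sub_mem (show algebraMap P T b ∈ q.asIdeal from hb) h1)
  obtain rfl | hm := Nat.eq_zero_or_pos m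
  · exact ⟨fun x _ => by rw [pow_zero, Ideal.one_eq_top]; trivial,
      fun y => ⟨0, by rw [pow_zero, Ideal.one_eq_top]; trivial⟩⟩
  refine ⟨fun x hx => ?_, fun y => ?_⟩
  · obtain ⟨a, ⟨s, hs⟩, rfl⟩ := IsLocalization.exists_mk'_eq q'.primeCompl x
    rw [Localization.localRingHom_mk', ← Localization.AtPrime.map_eq_maximalIdeal, ← Ideal.map_pow,
      IsLocalization.mk'_mem_map_algebraMap_iff q.asIdeal.primeCompl] at hx
    obtain ⟨t, ht, htx⟩ := hx
    rw [← Localization.AtPrime.map_eq_maximalIdeal, ← Ideal.map_pow,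
      IsLocalization.mk'_mem_map_algebraMap_iff q'.primeCompl]
    obtain ⟨b, hb⟩ := hlift t
    refine ⟨b, hback b t hb hm ht, ?_⟩
    rw [← Ideal.Quotient.eq_zero_iff_mem, ← hinj.eq_iff, map_zero, Ideal.quotientMap_mk,
      Ideal.Quotient.eq_zero_iff_mem, map_mul,
      show algebraMap P T b * algebraMap P T a =
        (algebraMap P T b - t) * algebraMap P T a + t * algebraMap P T a by ring]
    exact add_mem (Ideal.mul_mem_right _ _ hb) (hmem htx)
  · obtain ⟨u, ⟨t, ht⟩, rfl⟩ := IsLocalization.exists_mk'_eq q.asIdeal.primeCompl y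
    obtain ⟨c, hc⟩ := hlift u
    obtain ⟨b, hb⟩ := hlift t
    refine ⟨IsLocalization.mk' _ c (⟨b, hback b t hb hm ht⟩ : q'.primeCompl), ?_⟩
    rw [Localization.localRingHom_mk', ← IsLocalization.mk'_sub,
      ← Localization.AtPrime.map_eq_maximalIdeal, ← Ideal.map_pow,
      IsLocalization.mk'_mem_map_algebraMap_iff q.asIdeal.primeCompl]
    refine ⟨1, q.asIdeal.primeCompl.one_mem, ?_⟩
    rw [Ideal.map_pow, hq] at hb hc
    rw [one_mul, show u * algebraMap P T b - algebraMap P T c * t =
      u * (algebraMap P T b - t) - t * (algebraMap P T c - u) by ring]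
    exact sub_mem (Ideal.mul_mem_left _ _ hb) (Ideal.mul_mem_left _ _ hc)

end GrothLib.RigClosed
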