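import Groth.Agent.Lib.GeomReg.Local
import Groth.Agent.Lib.Cohen.NagataMain
import Groth.Agent.Lib.AdicExtra.Completion
import Groth.Agent.Lib.AdicExtra.Complete
import Groth.Agent.Lib.RigidBase.Chart
import Mathlib

/-!
# Restricted power series over a complete one-dimensional local domain form a regular algebra
-/

universe u

open TensorProduct IsLocalRing

namespace GrothLib.RigClosed

/-- A flat Noetherian algebra over a regular ring with regular fibres under all maximal ideals of the
algebra is regular. -/
theorem isRegularRing_of_flat_of_fibres_maximal (R S : Type u) [CommRing R] [CommRing S] [Algebra R S]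
    [IsRegularRing R] [IsNoetherianRing S] [Module.Flat R S]
    (h : ∀ (q : Ideal S) [q.IsMaximal], IsRegularRing ((q.under R).Fiber S)) : IsRegularRing S := by
  refine GrothLib.Serre.isRegularRing_of_forall_isMaximal S fun q _ => ?_
  let p := q.under R
  have := h q
  let Q := PrimeSpectrum.primesOverOrderIsoFiber R S p ⟨q, inferInstance, ⟨rfl⟩⟩
  have hQ : Q.asIdeal.comap Algebra.TensorProduct.includeRight = q := by
    rw [← PrimeSpectrum.coe_primesOverOrderIsoFiber_symm_apply p Q, OrderIso.symm_apply_apply]
  suffices key : IsRegularLocalRing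
      (Localization.AtPrime (Q.asIdeal.comap Algebra.TensorProduct.includeRight)) from
    (fun (r : Ideal S) [r.IsPrime] (e : r = q) (h : IsRegularLocalRing (Localization.AtPrime r)) =>
      (by subst e; exact h : IsRegularLocalRing (Localization.AtPrime q))) _ hQ key
  have hover : (Q.asIdeal.comap Algebra.TensorProduct.includeRight : Ideal S).LiesOver p := by
    rw [hQ]; exact ⟨rfl⟩
  let _ := Localization.AtPrime.algebraOfLiesOver p
    (Q.asIdeal.comap Algebra.TensorProduct.includeRight : Ideal S)
  have e := (Ideal.Fiber.localizationAlgEquivQuotient p Q.asIdeal).toRingEquiv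
  have : IsRegularLocalRing (Localization.AtPrime Q.asIdeal) :=
    IsRegularRing.isRegularLocalRing_localization _
  have hm : (maximalIdeal (Localization.AtPrime p)).map
      (algebraMap (Localization.AtPrime p)
        (Localization.AtPrime (Q.asIdeal.comap Algebra.TensorProduct.includeRight))) =
      p.map (algebraMap R _) := by
    rw [← Localization.AtPrime.map_eq_maximalIdeal, Ideal.map_map, ← IsScalarTower.algebraMap_eq]
  refine GrothLib.Serre.isRegularLocalRing_of_flat_of_fibre (Localization.AtPrime p) _ ?_
  exact IsRegularLocalRing.of_ringEquiv (R := Localization.AtPrime Q.asIdeal)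
    (e.trans (Ideal.quotEquivOfEq hm.symm))

variable {R : Type u} [CommRing R] [IsNoetherianRing R] {n : ℕ} (J : Ideal R)

/-- The ring of restricted power series. -/
local notation "TT" =>
  AdicCompletion (Ideal.map (algebraMap R (MvPolynomial (Fin n) R)) J) (MvPolynomial (Fin n) R)

/-- Base change of restricted power series to a field killed by the adic ideal is a polynomial ring. -/
theorem isRegularRing_tensor_of_killed (L : Type u) [Field L] [Algebra R L]
    (hL : ∀ x ∈ J, algebraMap R L x = 0) : IsRegularRing (L ⊗[R] TT) := by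
  set P := MvPolynomial (Fin n) R
  set K := J.map (algebraMap R P)
  let inr : P →ₐ[R] L ⊗[R] P := Algebra.TensorProduct.includeRight
  have hkill : ∀ x ∈ J, algebraMap R (L ⊗[R] P) x = 0 := fun x hx => by
    rw [IsScalarTower.algebraMap_apply R L (L ⊗[R] P), hL x hx, map_zero]
  have hKle : ∀ a : P, a ∈ K → inr a = 0 := fun a ha => by
    have : K ≤ RingHom.ker inr.toRingHom := Ideal.map_le_iff_le_comap.2 fun x hx => by
      rw [Ideal.mem_comap, RingHom.mem_ker]
      exact (inr.commutes x).trans (hkill x hx)
    exact this ha
  let ψ : TT →ₐ[R] L ⊗[R] P :=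
    (Ideal.Quotient.liftₐ K inr hKle).comp ((AdicCompletion.evalOneₐ K).restrictScalars R)
  have hψ : ∀ a : P, ψ (algebraMap P TT a) = inr a := fun a => by
    show Ideal.Quotient.liftₐ K inr hKle (AdicCompletion.evalOneₐ K (algebraMap P TT a)) = _
    rw [AlgHom.commutes]
    rfl
  let F : L ⊗[R] TT →ₐ[L] L ⊗[R] P :=
    Algebra.TensorProduct.lift (Algebra.ofId L (L ⊗[R] P)) ψ fun _ _ => Commute.all _ _
  let G : L ⊗[R] P →ₐ[L] L ⊗[R] TT :=
    Algebra.TensorProduct.map (AlgHom.id L L) (IsScalarTower.toAlgHom R P TT)
  have hFG : ∀ z, F (G z) = z := fun z => by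
    induction z with
    | zero => rw [map_zero, map_zero]
    | add a b ha hb => rw [map_add, map_add, ha, hb]
    | tmul l a =>
      simp only [G, F, Algebra.TensorProduct.map_tmul, Algebra.TensorProduct.lift_tmul,
        AlgHom.id_apply, IsScalarTower.coe_toAlgHom', hψ]
      rw [Algebra.ofId_apply, Algebra.TensorProduct.algebraMap_apply,
          Algebra.TensorProduct.includeRight_apply, Algebra.TensorProduct.tmul_mul_tmul,
          Algebra.algebraMap_self, RingHom.id_apply, one_mul, mul_one]
  have hker : ∀ t ∈ J.map (algebraMap R TT), ψ t = 0 ∧ (1 : L) ⊗ₜ[R] t = 0 := fun t ht => by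
    let ι : TT →ₐ[R] L ⊗[R] TT := Algebra.TensorProduct.includeRight
    have h1 : J.map (algebraMap R TT) ≤ RingHom.ker ψ.toRingHom ⊓ RingHom.ker ι.toRingHom :=
      Ideal.map_le_iff_le_comap.2 fun x hx => by
        refine Ideal.mem_comap.2 ⟨(ψ.commutes x).trans (hkill x hx), (ι.commutes x).trans ?_⟩
        rw [IsScalarTower.algebraMap_apply R L (L ⊗[R] TT), hL x hx, map_zero]
    exact h1 ht
  have hGF : ∀ z, G (F z) = z := fun z => by
    induction z with
    | zero => rw [map_zero, map_zero]
    | add a b ha hb => rw [map_add, map_add, ha, hb]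
    | tmul l t =>
      obtain ⟨s, hs⟩ := GrothLib.RigidBase.exists_sub_mem_pow_map (R := R)
        (IsNoetherian.noetherian J) 1 t
      rw [pow_one] at hs
      obtain ⟨h1, h2⟩ := hker _ hs
      rw [map_sub, hψ, sub_eq_zero] at h1
      rw [TensorProduct.tmul_sub, sub_eq_zero] at h2
      have e1 : F (l ⊗ₜ t) = l ⊗ₜ[R] s := by
        simp only [F, Algebra.TensorProduct.lift_tmul, h1]
        rw [Algebra.ofId_apply, Algebra.TensorProduct.algebraMap_apply,
          Algebra.TensorProduct.includeRight_apply, Algebra.TensorProduct.tmul_mul_tmul,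
          Algebra.algebraMap_self, RingHom.id_apply, one_mul, mul_one]
      rw [e1]
      simp only [G, Algebra.TensorProduct.map_tmul, AlgHom.id_apply, IsScalarTower.coe_toAlgHom']
      rw [show l = l • (1 : L) by simp, ← TensorProduct.smul_tmul', ← TensorProduct.smul_tmul', h2]
  let e : L ⊗[R] TT ≃ₐ[L] MvPolynomial (Fin n) L :=
    (AlgEquiv.ofAlgHom F G (AlgHom.ext hFG) (AlgHom.ext hGF)).trans
      (MvPolynomial.algebraTensorAlgEquiv R L)
  exact IsRegularRing.of_ringEquiv (R := MvPolynomial (Fin n) L) e.symm.toRingEquiv

variable [IsDomain R] (hJ : J ≠ ⊥)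
  (hall : ∀ P : Ideal R, P.IsPrime → P ≠ ⊥ → P.IsMaximal ∧ J ≤ P)

include hJ hall

/-- Base change of restricted power series to a finite extension of the fraction field is regular. -/
theorem isRegularRing_tensor_of_finite_fraction (K L : Type u) [Field K] [Field L] [Algebra R K]
    [IsFractionRing R K] [Algebra R L] [Algebra K L] [IsScalarTower R K L] [FiniteDimensional K L]
    (hfin : Module.Finite R (integralClosure R L)) : IsRegularRing (L ⊗[R] TT) := by
  set P := MvPolynomial (Fin n) R
  set B := integralClosure R L
  have hinj : Function.Injective (algebraMap R L) := by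
    rw [IsScalarTower.algebraMap_eq R K L]
    exact (algebraMap K L).injective.comp (IsFractionRing.injective R K)
  have hinjB : Function.Injective (algebraMap R B) := fun a b h => hinj (by
    simpa using congrArg (Subtype.val : B → L) h)
  have : Algebra.IsIntegral R B := Algebra.IsIntegral.of_finite R B
  have : IsNoetherianRing B := IsNoetherianRing.of_finite R B
  have : IsFractionRing B L := integralClosure.isFractionRing_of_finite_extension K L
  have : IsIntegrallyClosed B := integralClosure.isIntegrallyClosedOfFiniteExtension K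
  have : Ring.DimensionLEOne B := ⟨fun {q} hq _ =>
    Ideal.isMaximal_of_isIntegral_of_isMaximal_comap q
      (hall _ inferInstance (fun h0 => hq (Ideal.eq_bot_of_comap_eq_bot h0))).1⟩
  have : IsDedekindRing B := { }
  have : IsDedekindDomain B := { }
  have : IsNoetherianRing TT :=
    GrothLib.AdicExtra.isNoetherianRing_adicCompletion_of_fg _ (IsNoetherian.noetherian _)
  have hT : IsAdicComplete (J.map (algebraMap R TT)) TT := by
    have h := AdicCompletion.isAdicComplete_self (J.map (algebraMap R P)) (IsNoetherian.noetherian _)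
    rwa [Ideal.map_map, ← IsScalarTower.algebraMap_eq] at h
  have : Module.Flat R TT := Module.Flat.trans R P TT
  let e : TT ⊗[R] B ≃ₐ[R] B ⊗[R] TT := Algebra.TensorProduct.comm R TT B
  have : IsNoetherianRing (TT ⊗[R] B) := Algebra.FiniteType.isNoetherianRing TT _
  have : IsNoetherianRing (B ⊗[R] TT) := isNoetherianRing_of_ringEquiv _ e.toRingEquiv
  have : IsRegularRing (B ⊗[R] TT) := by
    refine isRegularRing_of_flat_of_fibres_maximal B _ fun q hq => ?_
    have hq' : (q.comap e.toRingHom).IsMaximal :=
      Ideal.comap_isMaximal_of_surjective _ e.surjective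
    have hM : ((q.comap e.toRingHom).under TT).IsMaximal :=
      Ideal.isMaximal_comap_of_isIntegral_of_isMaximal _
    have hJq : ∀ x ∈ J, algebraMap R B x ∈ q.under B := fun x hx => by
      have h1 : algebraMap R TT x ∈ (q.comap e.toRingHom).under TT :=
        ((IsAdicComplete.le_jacobson_bot (J.map (algebraMap R TT))).trans
          (sInf_le ⟨bot_le, hM⟩)) (Ideal.mem_map_of_mem _ hx)
      have h2 : e (algebraMap TT (TT ⊗[R] B) (algebraMap R TT x)) ∈ q := h1
      rw [← IsScalarTower.algebraMap_apply, AlgEquiv.commutes] at h2
      show algebraMap B _ (algebraMap R B x) ∈ q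
      rwa [← IsScalarTower.algebraMap_apply]
    have : IsRegularRing ((q.under B).ResidueField ⊗[R] TT) :=
      isRegularRing_tensor_of_killed J _ fun x hx => by
        rw [IsScalarTower.algebraMap_apply R B (q.under B).ResidueField]
        exact Ideal.algebraMap_residueField_eq_zero.2 (hJq x hx)
    exact IsRegularRing.of_ringEquiv (R := (q.under B).ResidueField ⊗[R] TT)
      (Algebra.TensorProduct.cancelBaseChange R B (q.under B).ResidueField
        (q.under B).ResidueField TT).symm.toRingEquiv
  have : IsRegularRing ((B ⊗[R] TT) ⊗[B] L) :=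
    GrothLib.GeomReg.isRegularRing_of_isLocalization
      (Algebra.algebraMapSubmonoid (B ⊗[R] TT) (nonZeroDivisors B)) _
  exact IsRegularRing.of_ringEquiv (R := (B ⊗[R] TT) ⊗[B] L)
    ((Algebra.TensorProduct.comm B (B ⊗[R] TT) L).toRingEquiv.trans
      (Algebra.TensorProduct.cancelBaseChange R B L L TT).toRingEquiv)

/-- Restricted power series over a complete local domain of dimension one: a regular algebra. -/
theorem isRegularHom_restricted [IsLocalRing R] [IsAdicComplete J R] :
    CAlg.IsRegularHom R TT := by
  set P := MvPolynomial (Fin n) R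
  have hJm : J ≤ maximalIdeal R := (IsAdicComplete.le_jacobson_bot J).trans
    (sInf_le ⟨bot_le, maximalIdeal.isMaximal R⟩)
  have hrad : maximalIdeal R ≤ J.radical := by
    rw [Ideal.radical_eq_sInf]
    refine le_sInf fun q ⟨hq, hqp⟩ => ?_
    exact (eq_maximalIdeal (hall q hqp fun h => hJ (le_bot_iff.1 (h ▸ hq))).1).ge
  obtain ⟨k, hk⟩ := Ideal.exists_pow_le_of_le_radical_of_fg hrad (IsNoetherian.noetherian _)
  have : IsAdicComplete (maximalIdeal R) R :=
    GrothLib.AdicExtra.isAdicComplete_of_pow_le (I := J) (c := 1) (d := k + 1) one_pos k.succ_pos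
      (by rwa [pow_one]) ((Ideal.pow_le_pow_right k.le_succ).trans hk)
  have hN2 := GrothLib.Cohen.isN2_of_isAdicComplete R
  refine ⟨Module.Flat.trans R P TT, fun p hp => ?_⟩
  have key : ∀ (L : Type u) [Field L] [Algebra p.ResidueField L] [Algebra R L]
      [IsScalarTower R p.ResidueField L], Module.Finite p.ResidueField L →
      IsRegularRing (L ⊗[R] TT) := by
    intro L _ _ _ _ hL
    by_cases hp0 : p = ⊥
    · subst hp0
      have hinjp : Function.Injective (algebraMap R (⊥ : Ideal R).ResidueField) :=
        (injective_iff_map_eq_zero _).2 fun x hx =>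
          (Submodule.mem_bot R).1 (Ideal.algebraMap_residueField_eq_zero.1 hx)
      have : FaithfulSMul R (⊥ : Ideal R).ResidueField :=
        (faithfulSMul_iff_algebraMap_injective _ _).2 hinjp
      have : FaithfulSMul R L := (faithfulSMul_iff_algebraMap_injective _ _).2 (by
        rw [IsScalarTower.algebraMap_eq R (⊥ : Ideal R).ResidueField L]
        exact (algebraMap _ L).injective.comp hinjp)
      let _ := FractionRing.liftAlgebra R (⊥ : Ideal R).ResidueField
      let _ := FractionRing.liftAlgebra R L
      have : IsScalarTower (FractionRing R) (⊥ : Ideal R).ResidueField L :=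
        IsScalarTower.of_algebraMap_eq' <| IsLocalization.ringHom_ext (nonZeroDivisors R) (by
          rw [RingHom.comp_assoc, ← IsScalarTower.algebraMap_eq, ← IsScalarTower.algebraMap_eq,
            ← IsScalarTower.algebraMap_eq])
      have : Module.Finite (FractionRing R) (⊥ : Ideal R).ResidueField := by
        refine Module.Finite.of_surjective (Algebra.linearMap (FractionRing R) _) fun z => ?_
        obtain ⟨a, b, hb, rfl⟩ := IsFractionRing.div_surjective (R ⧸ (⊥ : Ideal R)) z
        obtain ⟨a, rfl⟩ := Ideal.Quotient.mk_surjective a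
        obtain ⟨b, rfl⟩ := Ideal.Quotient.mk_surjective b
        refine ⟨algebraMap R (FractionRing R) a / algebraMap R (FractionRing R) b, ?_⟩
        rw [Algebra.linearMap_apply, map_div₀, ← IsScalarTower.algebraMap_apply,
          ← IsScalarTower.algebraMap_apply]
        rfl
      have : FiniteDimensional (FractionRing R) L :=
        Module.Finite.trans (⊥ : Ideal R).ResidueField L
      exact isRegularRing_tensor_of_finite_fraction J hJ hall (FractionRing R) L (hN2 L ‹_›)
    · refine isRegularRing_tensor_of_killed J L fun x hx => ?_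
      rw [IsScalarTower.algebraMap_apply R p.ResidueField L,
        Ideal.algebraMap_residueField_eq_zero.2 ((hall p hp hp0).2 hx), map_zero]
  refine ⟨?_, fun L _ _ hL => ?_⟩
  · have : IsRegularRing (p.Fiber TT) := key p.ResidueField inferInstance
    infer_instance
  · let _ : Algebra R L :=
      ((algebraMap p.ResidueField L).comp (algebraMap R p.ResidueField)).toAlgebra
    have : IsScalarTower R p.ResidueField L := IsScalarTower.of_algebraMap_eq fun _ => rfl
    have := key L hL
    exact IsRegularRing.of_ringEquiv (R := L ⊗[R] TT)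
      (Algebra.TensorProduct.cancelBaseChange R p.ResidueField L L TT).symm.toRingEquiv

end GrothLib.RigClosed
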