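import Mathlib
import Groth.Agent.Lib.RigClosed.CoprodTensor
import Groth.Agent.Lib.RigClosed.CTensorUniversal

/-!
# Rig-flatness is stable under completed base change
-/

open scoped TensorProduct

namespace GrothLib.RigClosed

universe u

variable {A : Type u} [CommRing A] [IsNoetherianRing A] {I : Ideal A}

omit [IsNoetherianRing A] in
/-- Flatness at a point of a completed coproduct. -/
theorem flat_coprod_point {T S R E : Type u} [CommRing T] [CommRing S] [CommRing R] [CommRing E]
    [Algebra A T] [Algebra A S] [Algebra A R] [Algebra A E] [Algebra T S] [Algebra T R] [Algebra T E]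
    [Algebra S E] [Algebra R E] [IsScalarTower A T S] [IsScalarTower A T R] [IsScalarTower A R E]
    [IsScalarTower A S E] [IsScalarTower T S E] [IsScalarTower T R E]
    [IsNoetherianRing T] [IsNoetherianRing S] [IsNoetherianRing R] [IsNoetherianRing E]
    [IsAdicComplete (I.map (algebraMap A S)) S] [IsAdicComplete (I.map (algebraMap A E)) E]
    (q : Ideal E) [q.IsPrime] [Module.Finite T (E ⧸ q)]
    (hS : Module.Flat T (Localization.AtPrime (q.comap (algebraMap S E))))
    (hlift : ∀ (X : Type u) [CommRing X] [Algebra A X] [IsAdicComplete (I.map (algebraMap A X)) X]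
      (u : R →ₐ[A] X) (v : S →ₐ[A] X), ∃ G : E →ₐ[A] X,
        G.comp (IsScalarTower.toAlgHom A R E) = u ∧ G.comp (IsScalarTower.toAlgHom A S E) = v)
    (hext : ∀ (X : Type u) [CommRing X] [Algebra A X] [IsAdicComplete (I.map (algebraMap A X)) X]
      (G G' : E →ₐ[A] X),
        G.comp (IsScalarTower.toAlgHom A R E) = G'.comp (IsScalarTower.toAlgHom A R E) →
        G.comp (IsScalarTower.toAlgHom A S E) = G'.comp (IsScalarTower.toAlgHom A S E) → G = G') :
    Module.Flat R (Localization.AtPrime q) := by
  have : Module.Finite T (R ⧸ q.comap (algebraMap R E)) := finite_quotient_comap q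
  refine flat_ctensor_point q hS fun n _ => ?_
  have := finite_quotient_pow (T := T) (q.comap (algebraMap R E)) n
  exact exists_map_to_tensor (I := I) (q.comap (algebraMap R E) ^ n) hlift hext

variable [IsAdicComplete I A] {B : Type u} [CommRing B] [Algebra A B] [IsNoetherianRing B]
  [IsAdicComplete (I.map (algebraMap A B)) B]
  {C : Type u} [CommRing C] [Algebra A C] [IsNoetherianRing C]
  [IsAdicComplete (I.map (algebraMap A C)) C]

theorem rigFlat_coprod (D : Type u) [CommRing D] [Algebra A D] [Algebra B D] [Algebra C D]
    [IsScalarTower A B D] [IsScalarTower A C D] [IsNoetherianRing D]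
    [IsAdicComplete ((I.map (algebraMap A C)).map (algebraMap C D)) D]
    (hftD : Algebra.FiniteType A (D ⧸ I.map (algebraMap A D)))
    (hlift : ∀ (X : Type u) [CommRing X] [Algebra A X] [IsAdicComplete (I.map (algebraMap A X)) X]
      (u : C →ₐ[A] X) (v : B →ₐ[A] X), ∃ F : D →ₐ[A] X,
        (∀ x, F (algebraMap C D x) = u x) ∧ ∀ b, F (algebraMap B D b) = v b)
    (hext : ∀ (X : Type u) [CommRing X] [Algebra A X] [IsAdicComplete (I.map (algebraMap A X)) X]
      (F F' : D →ₐ[A] X), (∀ x, F (algebraMap C D x) = F' (algebraMap C D x)) →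
        (∀ b, F (algebraMap B D b) = F' (algebraMap B D b)) → F = F')
    (hAB : RigFlat I B) : RigFlat (I.map (algebraMap A C)) D := by
  intro e ψ q hq
  let E := CL ((I.map (algebraMap A C)).map (algebraMap C D)) (algebraMap C D e)
  have hCD : (I.map (algebraMap A C)).map (algebraMap C D) = I.map (algebraMap A D) :=
    (Ideal.map_map _ _).trans (congrArg (Ideal.map · I) (IsScalarTower.algebraMap_eq A C D).symm)
  have : IsScalarTower A D E := isScalarTower_cl _ _
  have : IsScalarTower C D E := isScalarTower_cl _ _
  have : IsScalarTower B D E := isScalarTower_cl _ _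
  have : IsScalarTower A C E := IsScalarTower.of_algebraMap_eq fun x =>
    ((IsScalarTower.algebraMap_apply A D E x).trans
      (congrArg (algebraMap D E) (IsScalarTower.algebraMap_apply A C D x))).trans
      (IsScalarTower.algebraMap_apply C D E _).symm
  have : IsScalarTower A B E := IsScalarTower.of_algebraMap_eq fun x =>
    ((IsScalarTower.algebraMap_apply A D E x).trans
      (congrArg (algebraMap D E) (IsScalarTower.algebraMap_apply A B D x))).trans
      (IsScalarTower.algebraMap_apply B D E _).symm
  have : IsNoetherianRing E := isNoetherianRing_cl _ _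
  have hCE : (I.map (algebraMap A C)).map (algebraMap C E) = I.map (algebraMap A E) :=
    (Ideal.map_map _ _).trans (congrArg (Ideal.map · I) (IsScalarTower.algebraMap_eq A C E).symm)
  have hcE : IsAdicComplete ((I.map (algebraMap A C)).map (algebraMap C E)) E := isAdicComplete_cl' _
  have : IsAdicComplete (I.map (algebraMap A E)) E := hCE ▸ hcE
  have hftAE : Algebra.FiniteType A (E ⧸ I.map (algebraMap A E)) := by
    refine finiteType_trans hftD ?_
    have h := finiteType_cl_self (algebraMap C D e) ((I.map (algebraMap A C)).map (algebraMap C D))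
    rwa [map_cl_eq (algebraMap C D e) (I.map (algebraMap A C)), hCE] at h
  have hq' : RigClosed (I.map (algebraMap A E)) q := hCE ▸ hq
  obtain ⟨a, ha, hfina⟩ := exists_finite_over' hftAE q hq'
  obtain ⟨q', -, hq'c, hsurj, hq''⟩ := rigClosed_map_cl (algebraMap A E a) q hq' ha
  let E' := CL (I.map (algebraMap A E)) (algebraMap A E a)
  have : IsScalarTower A E E' := isScalarTower_cl _ _
  have : IsScalarTower C E E' := isScalarTower_cl _ _
  have : IsScalarTower B E E' := isScalarTower_cl _ _
  have : IsScalarTower D E E' := isScalarTower_cl _ _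
  have : IsScalarTower A C E' := isScalarTower_of_towers A C E E'
  have : IsScalarTower A B E' := isScalarTower_of_towers A B E E'
  have : IsNoetherianRing E' := isNoetherianRing_cl _ _
  have hcE' : IsAdicComplete (I.map (algebraMap A E')) E' := isAdicComplete_cl' _
  have : Module.Flat E E' := flat_cl _ _
  have hua : IsUnit (algebraMap A E' a) := by
    rw [IsScalarTower.algebraMap_apply A E E']
    exact isUnit_algebraMap_cl _ _
  have hue : IsUnit (algebraMap C E' e) := by
    rw [IsScalarTower.algebraMap_apply C E E']
    refine IsUnit.map _ ?_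
    rw [IsScalarTower.algebraMap_apply C D E]
    exact isUnit_algebraMap_cl _ _
  let T := CL I a
  have : IsNoetherianRing T := isNoetherianRing_cl I a
  have : IsAdicComplete (I.map (algebraMap A T)) T := isAdicComplete_cl I a
  obtain ⟨φ⟩ := exists_lift (I := I) (f := a) (X := E') hua
  letI : Algebra T E' := φ.toRingHom.toAlgebra
  have : IsScalarTower A T E' := IsScalarTower.of_algebraMap_eq fun x => (φ.commutes x).symm
  have : Module.Finite T (E' ⧸ q'.asIdeal) := hfina T E' q'.asIdeal
    (congrArg PrimeSpectrum.asIdeal hq'c) hsurj (isUnit_algebraMap_cl I a)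
  -- the point of `B_{a}`
  let S := CL (I.map (algebraMap A B)) (algebraMap A B a)
  have : IsScalarTower A B S := isScalarTower_cl _ _
  have : IsNoetherianRing S := isNoetherianRing_cl _ _
  have hcS : IsAdicComplete (I.map (algebraMap A S)) S := isAdicComplete_cl' _
  obtain ⟨β, hβ⟩ := exists_lift_cl_over (I := I) (algebraMap A B a) _ rfl (IsScalarTower.toAlgHom A B E')
    (show IsUnit (algebraMap B E' (algebraMap A B a)) by rwa [← IsScalarTower.algebraMap_apply])
  letI : Algebra S E' := β.toRingHom.toAlgebra
  have : IsScalarTower A S E' := IsScalarTower.of_algebraMap_eq fun x => (β.commutes x).symm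
  obtain ⟨σ⟩ := exists_lift (I := I) (f := a) (X := S) (by
    rw [IsScalarTower.algebraMap_apply A B S]; exact isUnit_algebraMap_cl _ _)
  letI : Algebra T S := σ.toRingHom.toAlgebra
  have : IsScalarTower A T S := IsScalarTower.of_algebraMap_eq fun x => (σ.commutes x).symm
  have : IsScalarTower T S E' := IsScalarTower.of_algebraMap_eq fun x => DFunLike.congr_fun
    (lift_ext φ (β.comp σ)) x
  have : Module.Finite S (E' ⧸ q'.asIdeal) := Module.Finite.of_restrictScalars_finite T S _
  have hSE' : (I.map (algebraMap A S)).map (algebraMap S E') = I.map (algebraMap A E') :=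
    (Ideal.map_map _ _).trans (congrArg (Ideal.map · I) (IsScalarTower.algebraMap_eq A S E').symm)
  have hP := rigClosed_comap_of_finite (I := I.map (algebraMap A S)) q' (by rwa [hSE'])
  have : Module.Finite T (S ⧸ (PrimeSpectrum.comap (algebraMap S E') q').asIdeal) :=
    finite_quotient_comap q'.asIdeal
  have : Module.Flat B S := flat_cl _ _
  have hSflat := rigFlat_flat_localRing hAB a S (PrimeSpectrum.comap (algebraMap S E') q') hP
  -- the base `R = C_{ea}`
  let f := e * algebraMap A C a
  let R := CL (I.map (algebraMap A C)) f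
  have : IsNoetherianRing R := isNoetherianRing_cl _ _
  have : IsScalarTower A C R := isScalarTower_cl _ _
  have hcR : IsAdicComplete (I.map (algebraMap A R)) R := isAdicComplete_cl' _
  obtain ⟨γ, hγ⟩ := exists_lift_cl_over (I := I) f _ rfl (IsScalarTower.toAlgHom A C E')
    (show IsUnit (algebraMap C E' f) by
      rw [map_mul, ← IsScalarTower.algebraMap_apply]; exact hue.mul hua)
  letI : Algebra R E' := γ.toRingHom.toAlgebra
  have : IsScalarTower A R E' := IsScalarTower.of_algebraMap_eq fun x => (γ.commutes x).symm
  have hRa : IsUnit (algebraMap A R a) := by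
    rw [IsScalarTower.algebraMap_apply A C R]
    exact isUnit_of_mul_isUnit_right (by rw [← map_mul]; exact isUnit_algebraMap_cl _ _)
  have hRe : IsUnit (algebraMap C R e) :=
    isUnit_of_mul_isUnit_left (by rw [← map_mul]; exact isUnit_algebraMap_cl _ _)
  obtain ⟨τ⟩ := exists_lift (I := I) (f := a) (X := R) hRa
  letI : Algebra T R := τ.toRingHom.toAlgebra
  have : IsScalarTower A T R := IsScalarTower.of_algebraMap_eq fun x => (τ.commutes x).symm
  have : IsScalarTower T R E' := IsScalarTower.of_algebraMap_eq fun x => DFunLike.congr_fun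
    (lift_ext φ (γ.comp τ)) x
  have : IsScalarTower C R E' := IsScalarTower.of_algebraMap_eq fun x => (hγ x).symm
  have hRflat : Module.Flat R (Localization.AtPrime q'.asIdeal) := by
    refine flat_coprod_point (I := I) (T := T) (S := S) q'.asIdeal hSflat
      (fun X _ _ _ u v => ?_) (fun X _ _ _ G G' hu hv => ?_)
    · obtain ⟨F, hFC, hFB⟩ := hlift X (u.comp (IsScalarTower.toAlgHom A C R))
        (v.comp (IsScalarTower.toAlgHom A B S))
      obtain ⟨F1, hF1⟩ := exists_lift_cl_over (I := I) (algebraMap C D e) _ hCD F
        (by rw [hFC]; exact hRe.map u)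
      obtain ⟨G, hG⟩ := exists_lift_cl_over (I := I) (algebraMap A E a) _ rfl F1
        (by rw [F1.commutes, ← u.commutes]; exact hRa.map u)
      refine ⟨G, lift_cl_over_ext (I := I) f _ rfl _ _ fun x => ?_,
        lift_cl_over_ext (I := I) (algebraMap A B a) _ rfl _ _ fun b => ?_⟩
      · show G (γ (algebraMap C R x)) = u (algebraMap C R x)
        refine (congrArg G ((hγ x).trans ((IsScalarTower.algebraMap_apply C E E' x).trans
          (congrArg (algebraMap E E') (IsScalarTower.algebraMap_apply C D E x))))).trans ?_
        exact ((hG _).trans (hF1 _)).trans (hFC x)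
      · show G (β (algebraMap B S b)) = v (algebraMap B S b)
        refine (congrArg G ((hβ b).trans ((IsScalarTower.algebraMap_apply B E E' b).trans
          (congrArg (algebraMap E E') (IsScalarTower.algebraMap_apply B D E b))))).trans ?_
        exact ((hG _).trans (hF1 _)).trans (hFB b)
    · refine lift_cl_over_ext (I := I) (algebraMap A E a) _ rfl G G' fun z => ?_
      refine DFunLike.congr_fun (lift_cl_over_ext (I := I) (algebraMap C D e) _ hCD
        (G.comp (IsScalarTower.toAlgHom A E E')) (G'.comp (IsScalarTower.toAlgHom A E E')) fun d => ?_) z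
      refine DFunLike.congr_fun (hext X
        ((G.comp (IsScalarTower.toAlgHom A E E')).comp (IsScalarTower.toAlgHom A D E))
        ((G'.comp (IsScalarTower.toAlgHom A E E')).comp (IsScalarTower.toAlgHom A D E))
        (fun x => ?_) (fun b => ?_)) d
      · have hx : algebraMap E E' (algebraMap D E (algebraMap C D x)) = γ (algebraMap C R x) :=
          (((hγ x).trans ((IsScalarTower.algebraMap_apply C E E' x).trans
            (congrArg (algebraMap E E') (IsScalarTower.algebraMap_apply C D E x))))).symm
        show G (algebraMap E E' (algebraMap D E (algebraMap C D x))) = G' (algebraMap E E' (algebraMap D E (algebraMap C D x)))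
        rw [hx]
        exact DFunLike.congr_fun hu _
      · have hb : algebraMap E E' (algebraMap D E (algebraMap B D b)) = β (algebraMap B S b) :=
          (((hβ b).trans ((IsScalarTower.algebraMap_apply B E E' b).trans
            (congrArg (algebraMap E E') (IsScalarTower.algebraMap_apply B D E b))))).symm
        show G (algebraMap E E' (algebraMap D E (algebraMap B D b))) = G' (algebraMap E E' (algebraMap D E (algebraMap B D b)))
        rw [hb]
        exact DFunLike.congr_fun hv _
  have : IsAdicComplete ((I.map (algebraMap A C)).map (algebraMap C E')) E' :=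
    ((Ideal.map_map _ _).trans (congrArg (Ideal.map · I) (IsScalarTower.algebraMap_eq A C E').symm)) ▸
      hcE'
  exact flat_of_refinement (A := C) (I := I.map (algebraMap A C)) ψ q q' hq'c (dvd_mul_right e _)
    hRflat

theorem rigFlat_baseChange (hftB : Algebra.FiniteType A (B ⧸ I.map (algebraMap A B)))
    (hftC : Algebra.FiniteType A (C ⧸ I.map (algebraMap A C))) (hAB : RigFlat I B) :
    RigFlat (I.map (algebraMap A C)) (CTensor I B C) := by
  letI : Algebra B (CTensor I B C) := ((algebraMap (C ⊗[A] B) (CTensor I B C)).comp
    (Algebra.TensorProduct.includeRight : B →ₐ[A] C ⊗[A] B).toRingHom).toAlgebra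
  have : IsScalarTower A B (CTensor I B C) := IsScalarTower.of_algebraMap_eq fun x =>
    (IsScalarTower.algebraMap_apply A (C ⊗[A] B) (CTensor I B C) x).trans
      (congrArg (algebraMap (C ⊗[A] B) (CTensor I B C))
        ((Algebra.TensorProduct.includeRight : B →ₐ[A] C ⊗[A] B).commutes x).symm)
  have := isNoetherianRing_ctensor hftB hftC
  have := isAdicComplete_ctensor (I := I) (B := B) (C := C)
  exact rigFlat_coprod (CTensor I B C) (finiteType_ctensor hftB hftC)
    (fun X _ _ _ u v => exists_lift_ctensor u v)
    (fun X _ _ _ F F' hC hB => lift_ctensor_ext F F' hC hB) hAB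

end GrothLib.RigClosed
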