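import Mathlib
import Groth.Agent.Lib.RigClosed.RigFlatEtale
import Groth.Agent.Lib.RigClosed.CTensorUniversal
import Groth.Agent.S8836

/-!
# Descent of rig-flatness
-/

namespace GrothLib.RigClosed

universe u

variable {A : Type u} [CommRing A] [IsNoetherianRing A] {I : Ideal A}
  {B : Type u} [CommRing B] [Algebra A B] [IsNoetherianRing B]

/-- Points of the special fibre lift to completed localizations of faithfully flat algebras. -/
theorem exists_prime_cl_over {B' : Type u} [CommRing B'] [Algebra B B'] [IsNoetherianRing B']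
    [Module.FaithfullyFlat B B'] (J : Ideal B) (g : B)
    [Algebra (CL J g) (CL (J.map (algebraMap B B')) (algebraMap B B' g))]
    [IsScalarTower B (CL J g) (CL (J.map (algebraMap B B')) (algebraMap B B' g))]
    (n : Ideal (CL J g)) [n.IsPrime] (hn : J.map (algebraMap B (CL J g)) ≤ n) :
    ∃ Q : PrimeSpectrum (CL (J.map (algebraMap B B')) (algebraMap B B' g)),
      J.map (algebraMap B _) ≤ Q.asIdeal ∧ Q.asIdeal.comap (algebraMap (CL J g) _) = n := by
  let T := CL J g
  let T' := CL (J.map (algebraMap B B')) (algebraMap B B' g)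
  obtain ⟨Qb, hQb⟩ := PrimeSpectrum.comap_surjective_of_faithfullyFlat (A := B) (B := B')
    ⟨n.comap (algebraMap B T), inferInstance⟩
  have hQb' : Qb.asIdeal.comap (algebraMap B B') = n.comap (algebraMap B T) :=
    congrArg PrimeSpectrum.asIdeal hQb
  have hgn : g ∉ n.comap (algebraMap B T) := fun h =>
    Ideal.IsPrime.ne_top ‹n.IsPrime› (Ideal.eq_top_of_isUnit_mem n h (isUnit_algebraMap_cl J g))
  let K := Qb.asIdeal.ResidueField
  have hJK : (J.map (algebraMap B B')).map (algebraMap B' K) = ⊥ := by
    rw [Ideal.map_eq_bot_iff_le_ker, Ideal.ker_algebraMap_residueField, Ideal.map_le_iff_le_comap,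
      hQb', ← Ideal.map_le_iff_le_comap]
    exact hn
  have : IsAdicComplete ((J.map (algebraMap B B')).map (algebraMap B' K)) K := by
    rw [hJK]; exact IsAdicComplete.bot (R := K) (M := K)
  obtain ⟨G⟩ := exists_lift (A := B') (I := J.map (algebraMap B B')) (f := algebraMap B B' g) (X := K) (by
    rw [isUnit_iff_ne_zero, Ne, ← RingHom.mem_ker, Ideal.ker_algebraMap_residueField]
    exact fun h => hgn (hQb' ▸ h))
  have : IsScalarTower B B' T' := isScalarTower_cl _ _
  let Q : Ideal T' := RingHom.ker G.toRingHom
  have hQ : Q.IsPrime := RingHom.ker_isPrime _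
  have hJQ : J.map (algebraMap B T') ≤ Q := by
    rw [Ideal.map_le_iff_le_comap]
    intro j hj
    rw [Ideal.mem_comap, RingHom.mem_ker, IsScalarTower.algebraMap_apply B B' T']
    refine (G.commutes _).trans ((Submodule.mem_bot (R := K)).1 ?_)
    rw [← hJK]
    exact Ideal.mem_map_of_mem _ (Ideal.mem_map_of_mem _ hj)
  have hQB : ∀ b, algebraMap B T b ∈ Q.comap (algebraMap T T') ↔ algebraMap B T b ∈ n := by
    intro b
    rw [Ideal.mem_comap, ← IsScalarTower.algebraMap_apply B T T', RingHom.mem_ker,
      IsScalarTower.algebraMap_apply B B' T', ← Ideal.mem_comap, ← hQb', Ideal.mem_comap]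
    exact (iff_of_eq (congrArg (· = 0) (G.commutes _))).trans
      (SetLike.ext_iff.1 (Ideal.ker_algebraMap_residueField Qb.asIdeal) _)
  refine ⟨⟨Q, hQ⟩, hJQ, ?_⟩
  ext x
  obtain ⟨b, k, hbk⟩ := exists_pow_mul_sub_mem J g x
  have key : ∀ P : Ideal T, J.map (algebraMap B T) ≤ P → P.IsPrime →
      (x ∈ P ↔ algebraMap B T b ∈ P) := by
    intro P hP hPp
    have h1 := hP hbk
    refine ⟨fun hx => ?_, fun hb => ?_⟩
    · exact (sub_sub_self (algebraMap B T g ^ k * x) (algebraMap B T b)) ▸
        sub_mem (P.mul_mem_left (algebraMap B T g ^ k) hx) h1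
    have h2 : algebraMap B T g ^ k * x ∈ P :=
      (sub_add_cancel (algebraMap B T g ^ k * x) (algebraMap B T b)) ▸ add_mem h1 hb
    exact (Ideal.unit_mul_mem_iff_mem _ ((isUnit_algebraMap_cl J g).pow k)).1 h2
  rw [key n hn inferInstance, ← hQB, key _ ?_ (Ideal.comap_isPrime _ _)]
  rw [← Ideal.map_le_iff_le_comap]
  exact ((Ideal.map_map _ _).trans
    (congrArg (Ideal.map · J) (IsScalarTower.algebraMap_eq B T T').symm)).le.trans hJQ

omit [IsNoetherianRing A] [IsNoetherianRing B] in
theorem flat_atPrime_congr {T S : Type u} [CommRing T] [CommRing S] [Algebra T S] {P Q : Ideal S}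
    [P.IsPrime] [Q.IsPrime] (h : P = Q) (hP : Module.Flat T (Localization.AtPrime P)) :
    Module.Flat T (Localization.AtPrime Q) := by
  subst h; exact hP

variable [IsAdicComplete I A] [IsAdicComplete (I.map (algebraMap A B)) B]
  {A' : Type u} [CommRing A'] [Algebra A A'] [IsNoetherianRing A']
  [IsAdicComplete (I.map (algebraMap A A')) A']
  {B' : Type u} [CommRing B'] [Algebra A B'] [Algebra B B'] [Algebra A' B']
  [IsScalarTower A B B'] [IsScalarTower A A' B'] [IsNoetherianRing B']
  [IsAdicComplete (I.map (algebraMap A B')) B']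

theorem rigFlat_descent (hftB : Algebra.FiniteType A (B ⧸ I.map (algebraMap A B)))
    (hftB'B : Algebra.FiniteType B (B' ⧸ I.map (algebraMap A B')))
    [Module.Flat A A'] [Module.FaithfullyFlat B B']
    (h' : RigFlat (I.map (algebraMap A A')) B') : RigFlat I B := by
  intro e ψ q hq
  let E := CL (I.map (algebraMap A B)) (algebraMap A B e)
  have : IsScalarTower A B E := isScalarTower_cl _ _
  have : IsNoetherianRing E := isNoetherianRing_cl _ _
  have : IsAdicComplete (I.map (algebraMap A E)) E := isAdicComplete_cl' _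
  obtain ⟨a, ha, hfina⟩ := exists_finite_over' (finiteType_cl _ hftB) q hq
  obtain ⟨q', -, hq'c, hsurj, hq''⟩ := rigClosed_map_cl (algebraMap A E a) q hq ha
  let E' := CL (I.map (algebraMap A E)) (algebraMap A E a)
  have : IsScalarTower A E E' := isScalarTower_cl _ _
  have : IsScalarTower B E E' := isScalarTower_cl _ _
  have : IsScalarTower A B E' := isScalarTower_of_towers A B E E'
  have : IsNoetherianRing E' := isNoetherianRing_cl _ _
  have hcE' : IsAdicComplete (I.map (algebraMap A E')) E' := isAdicComplete_cl' _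
  have : Module.Flat E E' := flat_cl _ _
  have : Module.Flat B E := flat_cl _ _
  have : Module.Flat B E' := Module.Flat.trans B E E'
  have hu : IsUnit (algebraMap A E' (e * a)) := by
    rw [map_mul]
    refine IsUnit.mul ?_ ?_
    · have he : algebraMap A E' e = algebraMap E E' (algebraMap B E (algebraMap A B e)) :=
        (IsScalarTower.algebraMap_apply A E E' e).trans
          (congrArg (algebraMap E E') (IsScalarTower.algebraMap_apply A B E e))
      rw [he]
      exact (isUnit_algebraMap_cl _ _).map _
    · rw [IsScalarTower.algebraMap_apply A E E']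
      exact isUnit_algebraMap_cl _ _
  let f := e * a
  let T := CL I f
  have : IsNoetherianRing T := isNoetherianRing_cl I f
  have : IsAdicComplete (I.map (algebraMap A T)) T := isAdicComplete_cl I f
  obtain ⟨φ⟩ := exists_lift (I := I) (f := f) (X := E') hu
  letI : Algebra T E' := φ.toRingHom.toAlgebra
  have : IsScalarTower A T E' := IsScalarTower.of_algebraMap_eq fun x => (φ.commutes x).symm
  have : Module.Finite T (E' ⧸ q'.asIdeal) := hfina T E' q'.asIdeal
    (congrArg PrimeSpectrum.asIdeal hq'c) hsurj
    (isUnit_of_dvd_unit (map_dvd _ (dvd_mul_left a e)) (isUnit_algebraMap_cl I f))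
  -- the point `P` of `B_f`
  let S := CL (I.map (algebraMap A B)) (algebraMap A B f)
  have : IsScalarTower A B S := isScalarTower_cl _ _
  have : IsNoetherianRing S := isNoetherianRing_cl _ _
  have hcS : IsAdicComplete (I.map (algebraMap A S)) S := isAdicComplete_cl' _
  obtain ⟨β, hβ⟩ := exists_lift_cl_over (I := I) (algebraMap A B f) _ rfl
    (IsScalarTower.toAlgHom A B E')
    (show IsUnit (algebraMap B E' (algebraMap A B f)) by rwa [← IsScalarTower.algebraMap_apply])
  letI : Algebra S E' := β.toRingHom.toAlgebra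
  have : IsScalarTower A S E' := IsScalarTower.of_algebraMap_eq fun x => (β.commutes x).symm
  have : IsScalarTower B S E' := IsScalarTower.of_algebraMap_eq fun x => (hβ x).symm
  obtain ⟨σ⟩ := exists_lift (I := I) (f := f) (X := S) (by
    rw [IsScalarTower.algebraMap_apply A B S]; exact isUnit_algebraMap_cl _ _)
  letI : Algebra T S := σ.toRingHom.toAlgebra
  have : IsScalarTower A T S := IsScalarTower.of_algebraMap_eq fun x => (σ.commutes x).symm
  have : IsScalarTower T S E' := IsScalarTower.of_algebraMap_eq fun x => DFunLike.congr_fun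
    (lift_ext φ (β.comp σ)) x
  have : Module.Finite S (E' ⧸ q'.asIdeal) := Module.Finite.of_restrictScalars_finite T S _
  have hSE' : (I.map (algebraMap A S)).map (algebraMap S E') = I.map (algebraMap A E') :=
    (Ideal.map_map _ _).trans (congrArg (Ideal.map · I) (IsScalarTower.algebraMap_eq A S E').symm)
  let P := PrimeSpectrum.comap (algebraMap S E') q'
  have hP := rigClosed_comap_of_finite (I := I.map (algebraMap A S)) q' (by rwa [hSE'])
  have hfinP : Module.Finite T (S ⧸ P.asIdeal) := finite_quotient_comap q'.asIdeal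
  -- a point above `P`
  let S' := CL ((I.map (algebraMap A B)).map (algebraMap B B')) (algebraMap B B' (algebraMap A B f))
  have : IsScalarTower A B' S' := isScalarTower_cl _ _
  have : IsScalarTower B B' S' := isScalarTower_cl _ _
  have : IsScalarTower A' B' S' := isScalarTower_cl _ _
  have : IsScalarTower A B S' := IsScalarTower.of_algebraMap_eq fun x =>
    ((IsScalarTower.algebraMap_apply A B' S' x).trans
      (congrArg (algebraMap B' S') (IsScalarTower.algebraMap_apply A B B' x))).trans
      (IsScalarTower.algebraMap_apply B B' S' _).symm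
  have : IsScalarTower A A' S' := IsScalarTower.of_algebraMap_eq fun x =>
    ((IsScalarTower.algebraMap_apply A B' S' x).trans
      (congrArg (algebraMap B' S') (IsScalarTower.algebraMap_apply A A' B' x))).trans
      (IsScalarTower.algebraMap_apply A' B' S' _).symm
  have : IsNoetherianRing S' := isNoetherianRing_cl _ _
  have hcS'B : IsAdicComplete ((I.map (algebraMap A B)).map (algebraMap B S')) S' := isAdicComplete_cl' _
  have hBS' : (I.map (algebraMap A B)).map (algebraMap B S') = I.map (algebraMap A S') :=
    (Ideal.map_map _ _).trans (congrArg (Ideal.map · I) (IsScalarTower.algebraMap_eq A B S').symm)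
  have hcS' : IsAdicComplete (I.map (algebraMap A S')) S' := hBS' ▸ hcS'B
  have hgu : IsUnit (algebraMap B S' (algebraMap A B f)) := by
    rw [IsScalarTower.algebraMap_apply B B' S']; exact isUnit_algebraMap_cl _ _
  obtain ⟨ν⟩ := exists_lift (A := B) (I := I.map (algebraMap A B)) (f := algebraMap A B f) (X := S') hgu
  letI : Algebra S S' := ν.toRingHom.toAlgebra
  have : IsScalarTower B S S' := IsScalarTower.of_algebraMap_eq fun x => (ν.commutes x).symm
  have : IsScalarTower A S S' := IsScalarTower.of_algebraMap_eq fun x =>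
    ((IsScalarTower.algebraMap_apply A B S' x).trans
      (IsScalarTower.algebraMap_apply B S S' _)).trans
      (congrArg (algebraMap S S') (IsScalarTower.algebraMap_apply A B S x).symm)
  have : Module.Flat B' S' := flat_cl _ _
  have : Module.Flat B S' := Module.Flat.trans B B' S'
  have : Module.Flat S S' := flat_cl_lift
  have hSS' : (I.map (algebraMap A S)).map (algebraMap S S') = I.map (algebraMap A S') :=
    (Ideal.map_map _ _).trans (congrArg (Ideal.map · I) (IsScalarTower.algebraMap_eq A S S').symm)
  have : IsAdicComplete ((I.map (algebraMap A S)).map (algebraMap S S')) S' := hSS' ▸ hcS'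
  have : IsAdicComplete ((I.map (algebraMap A B)).map (algebraMap B B')) B' :=
    ((Ideal.map_map _ _).trans (congrArg (Ideal.map · I) (IsScalarTower.algebraMap_eq A B B').symm)) ▸
      inferInstance
  have hftS' : Algebra.FiniteType S (S' ⧸ (I.map (algebraMap A S)).map (algebraMap S S')) := by
    rw [hSS', ← hBS']
    have : Algebra.FiniteType B (S' ⧸ (I.map (algebraMap A B)).map (algebraMap B S')) := by
      refine finiteType_cl _ ?_
      rw [show (I.map (algebraMap A B)).map (algebraMap B B') = I.map (algebraMap A B') from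
        (Ideal.map_map _ _).trans (congrArg (Ideal.map · I) (IsScalarTower.algebraMap_eq A B B').symm)]
      exact hftB'B
    exact Algebra.FiniteType.of_restrictScalars_finiteType B _ _
  obtain ⟨n, hn, hPn⟩ := P.asIdeal.exists_le_maximal P.isPrime.ne_top
  have : IsAdicComplete ((I.map (algebraMap A B)).map (algebraMap B S)) S := isAdicComplete_cl _ _
  have hIn : (I.map (algebraMap A B)).map (algebraMap B S) ≤ n :=
    (IsAdicComplete.le_jacobson_bot _).trans (sInf_le ⟨bot_le, hn⟩)
  obtain ⟨Q, hIQ, hQn⟩ := exists_prime_cl_over (B' := B') (I.map (algebraMap A B)) (algebraMap A B f) n hIn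
  obtain ⟨q₂, hq₂, hq₂P⟩ := (Groth.Agent.S8836.result S (I.map (algebraMap A S)) S' hftS' P hP).1
    ⟨Q, by rw [hSS', ← hBS']; exact hIQ, by
      show P.asIdeal ≤ Q.asIdeal.comap (algebraMap S S') ∧ (Q.asIdeal.comap (algebraMap S S')).IsMaximal
      rw [hQn]; exact ⟨hPn, hn⟩⟩
  have : Module.Finite S (S' ⧸ q₂.asIdeal) :=
    ((tfae_rigClosed hftS' q₂ hq₂).out 1 2).1 (by rw [hq₂P]; exact hP)
  letI : Algebra T S' := ((algebraMap S S').comp (algebraMap T S)).toAlgebra
  have : IsScalarTower T S S' := IsScalarTower.of_algebraMap_eq fun _ => rfl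
  have : IsScalarTower A T S' := IsScalarTower.of_algebraMap_eq fun x => by
    rw [IsScalarTower.algebraMap_apply A S S', IsScalarTower.algebraMap_apply A T S]
    rfl
  letI : Algebra (S ⧸ P.asIdeal) (S' ⧸ q₂.asIdeal) :=
    (Ideal.quotientMap q₂.asIdeal (algebraMap S S')
      (le_of_eq (congrArg PrimeSpectrum.asIdeal hq₂P).symm)).toAlgebra
  have : IsScalarTower S (S ⧸ P.asIdeal) (S' ⧸ q₂.asIdeal) :=
    IsScalarTower.of_algebraMap_eq fun _ => rfl
  have : Module.Finite (S ⧸ P.asIdeal) (S' ⧸ q₂.asIdeal) :=
    Module.Finite.of_restrictScalars_finite S _ _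
  have : IsScalarTower T (S ⧸ P.asIdeal) (S' ⧸ q₂.asIdeal) :=
    IsScalarTower.of_algebraMap_eq fun _ => rfl
  have : Module.Finite T (S' ⧸ q₂.asIdeal) := Module.Finite.trans (S ⧸ P.asIdeal) _
  -- flatness there
  let T' := CL (I.map (algebraMap A A')) (algebraMap A A' f)
  have : IsScalarTower A A' T' := isScalarTower_cl _ _
  have : IsNoetherianRing T' := isNoetherianRing_cl _ _
  have hA'S' : (I.map (algebraMap A A')).map (algebraMap A' S') = I.map (algebraMap A S') :=
    (Ideal.map_map _ _).trans (congrArg (Ideal.map · I) (IsScalarTower.algebraMap_eq A A' S').symm)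
  have : IsAdicComplete ((I.map (algebraMap A A')).map (algebraMap A' S')) S' := hA'S' ▸ hcS'
  have huS' : IsUnit (algebraMap A S' f) := by
    rw [IsScalarTower.algebraMap_apply A B S']; exact hgu
  obtain ⟨φ'⟩ := exists_lift (A := A') (I := I.map (algebraMap A A')) (f := algebraMap A A' f) (X := S')
    ((IsScalarTower.algebraMap_apply A A' S' f) ▸ huS')
  letI : Algebra T' S' := φ'.toRingHom.toAlgebra
  have : IsScalarTower A' T' S' := IsScalarTower.of_algebraMap_eq fun x => (φ'.commutes x).symm
  have : IsAdicComplete (I.map (algebraMap A T')) T' := isAdicComplete_cl' _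
  obtain ⟨θ⟩ := exists_lift (I := I) (f := f) (X := T') (by
    rw [IsScalarTower.algebraMap_apply A A' T']; exact isUnit_algebraMap_cl _ _)
  letI : Algebra T T' := θ.toRingHom.toAlgebra
  have : IsScalarTower A T T' := IsScalarTower.of_algebraMap_eq fun x => (θ.commutes x).symm
  have : IsScalarTower T T' S' := IsScalarTower.of_algebraMap_eq fun x => DFunLike.congr_fun
    (lift_ext (IsScalarTower.toAlgHom A T S') ((φ'.restrictScalars A).comp θ)) x
  have : Module.Finite T' (S' ⧸ q₂.asIdeal) := Module.Finite.of_restrictScalars_finite T T' _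
  have : Module.Flat B' S' := flat_cl _ _
  have h1 := rigFlat_flat_localRing h' (algebraMap A A' f) S' q₂ (by
    rw [hA'S', ← hSS']; exact hq₂)
  have : Module.Flat A' T' := flat_cl _ _
  have : Module.Flat A T' := Module.Flat.trans A A' T'
  have : Module.Flat T T' := flat_cl_lift
  have h2 : Module.Flat T (Localization.AtPrime q₂.asIdeal) := Module.Flat.trans T T' _
  have h3 := flat_localRing_descend (S := S) (T := T) q₂.asIdeal h2
  have : Module.Flat S E' := by
    have : IsAdicComplete ((I.map (algebraMap A B)).map (algebraMap B E')) E' :=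
      ((Ideal.map_map _ _).trans (congrArg (Ideal.map · I) (IsScalarTower.algebraMap_eq A B E').symm)) ▸
        hcE'
    exact flat_cl_lift
  refine flat_of_refinement ψ q q' hq'c (dvd_mul_right e a)
    (flat_localRing_trans q'.asIdeal ?_ (Module.Flat.trans S E' _))
  exact flat_atPrime_congr (congrArg PrimeSpectrum.asIdeal hq₂P) h3

end GrothLib.RigClosed
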